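import Groth.Agent.Lib.FunFld.Degree
import Groth.Agent.Lib.CurvePoints.Basic
import Groth.Agent.Lib.Dim.Scheme
import Groth.Agent.Lib.Dim.Ring
import Groth.Agent.Lib.Euler.VB
import Groth.Prelude.Def_Coh
import Mathlib.AlgebraicGeometry.ValuativeCriterion
import Mathlib.AlgebraicGeometry.Stalk
import Mathlib.RingTheory.Valuation.Discrete.IsDiscreteValuationRing

/-!
# Closed points of a regular proper curve and places of its function field
-/

set_option linter.style.haveILetI false

universe u

open CategoryTheory CategoryTheory.Limits AlgebraicGeometry TopologicalSpace IsLocalRing WithZero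
open _root_.FunFld (Place)

namespace GrothLib.CurveRR

/-- A one-dimensional integral scheme whose local rings at closed points are DVRs. -/
class RegCurve (X : Scheme.{u}) [IsIntegral X] : Prop where
  dim : topologicalKrullDim X = 1
  dvr : ∀ x : X, x ≠ genericPoint X → IsDiscreteValuationRing (X.presheaf.stalk x)

variable {X : Scheme.{u}} [IsIntegral X]

variable (X) in
/-- The closed points. -/
abbrev CP : Type u := {x : X // x ≠ genericPoint X}

instance dvrStalk [RegCurve X] (x : CP X) : IsDiscreteValuationRing (X.presheaf.stalk x.1) :=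
  RegCurve.dvr x.1 x.2

theorem regCurve_of_isRegularLocalRing [IsLocallyNoetherian X] (hd : topologicalKrullDim X = 1)
    (hreg : ∀ x : X, IsClosed ({x} : Set X) → IsRegularLocalRing (X.presheaf.stalk x)) : RegCurve X := by
  refine ⟨hd, fun x hx => CurvePoints.isDiscreteValuationRing_stalk hd.le hx ?_⟩
  haveI := Euler.isPrincipalIdealRing_stalk hd.le hreg x
  infer_instance

theorem regCurve_of_smooth {k : Type u} [Field k] (p : X ⟶ Spec (CommRingCat.of k)) [Smooth p]
    (hd : topologicalKrullDim X = 1) : RegCurve X := by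
  haveI : IsLocallyNoetherian X := LocallyOfFiniteType.isLocallyNoetherian p
  exact regCurve_of_isRegularLocalRing hd fun _ hy => GrpSchField.isRegularLocalRing_stalk_of_smooth p hy

variable (k : Type u) [Field k] [X.Over (Spec (CommRingCat.of k))]

/-- The constants in the local ring at a point. -/
noncomputable def cst (x : X) : k →+* X.presheaf.stalk x :=
  (X.presheaf.germ ⊤ x trivial).hom.comp (Coh.toGlobal (X ↘ Spec (CommRingCat.of k)))

noncomputable instance functionFieldAlgebra : Algebra k X.functionField := (cst k (genericPoint X)).toAlgebra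

theorem algebraMap_cst (x : X) (c : k) :
    algebraMap (X.presheaf.stalk x) X.functionField (cst k x c) = algebraMap k X.functionField c := by
  change (X.presheaf.germ ⊤ x trivial ≫ X.presheaf.stalkSpecializes _) _ = _
  rw [TopCat.Presheaf.germ_stalkSpecializes]
  rfl

variable [RegCurve X]

/-- The place of a closed point. -/
noncomputable def place (x : CP X) : Place k X.functionField :=
  ⟨(IsDiscreteValuationRing.maximalIdeal (X.presheaf.stalk x.1)).valuation X.functionField,
    fun c => by rw [← algebraMap_cst k x.1 c]; exact IsDedekindDomain.HeightOneSpectrum.valuation_le_one _ _,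
    IsDedekindDomain.HeightOneSpectrum.valuation_surjective _ _⟩

theorem mem_place_O {x : CP X} {z : X.functionField} :
    z ∈ (place k x).O ↔ z ∈ Set.range (algebraMap (X.presheaf.stalk x.1) X.functionField) := by
  constructor
  · intro h
    obtain ⟨y, hy⟩ := IsDiscreteValuationRing.exists_lift_of_le_one (A := X.presheaf.stalk x.1) h
    exact ⟨y, hy⟩
  · rintro ⟨y, rfl⟩
    exact IsDedekindDomain.HeightOneSpectrum.valuation_le_one _ _

theorem place_lt_one_iff {x : CP X} {r : X.presheaf.stalk x.1} :
    (place k x).1 (algebraMap _ X.functionField r) < 1 ↔ r ∈ maximalIdeal (X.presheaf.stalk x.1) :=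
  IsDedekindDomain.HeightOneSpectrum.valuation_lt_one_iff_mem _ _

omit [RegCurve X] in
theorem eq_toSpecΓ (f : X ⟶ Spec (CommRingCat.of k)) :
    f = X.toSpecΓ ≫ Spec.map ((Scheme.ΓSpecIso (CommRingCat.of k)).inv ≫ f.appTop) := by
  rw [Spec.map_comp, ← Category.assoc, ← Scheme.toSpecΓ_naturality, Category.assoc]
  simp

omit [RegCurve X] in
theorem fromSpecStalk_over (x : X) :
    X.fromSpecStalk x ≫ (X ↘ Spec (CommRingCat.of k)) = Spec.map (CommRingCat.ofHom (cst k x)) := by
  conv_lhs => rw [eq_toSpecΓ k (X ↘ Spec (CommRingCat.of k))]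
  rw [← Category.assoc, Scheme.fromSpecStalk_toSpecΓ, ← Spec.map_comp, Category.assoc]
  rfl

variable {k}

omit [RegCurve X] in
/-- The centre of a valuation ring of the function field containing the constants. -/
theorem exists_center [IsProper (X ↘ Spec (CommRingCat.of k))] (V : ValuationSubring X.functionField)
    (hV : ∀ c : k, algebraMap k X.functionField c ∈ V) :
    ∃ (x : X) (φ : X.presheaf.stalk x →+* V), IsLocalHom φ ∧
      ∀ r, (φ r : X.functionField) = algebraMap (X.presheaf.stalk x) X.functionField r := by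
  let i₁ : Spec (CommRingCat.of X.functionField) ⟶ X := X.fromSpecStalk (genericPoint X)
  let β : k →+* V := (algebraMap k X.functionField).codRestrict V.toSubring hV
  let S : ValuativeCommSq (X ↘ Spec (CommRingCat.of k)) :=
    { R := V, K := X.functionField, i₁ := i₁, i₂ := Spec.map (CommRingCat.ofHom β)
      commSq := ⟨by
        rw [← Spec.map_comp]
        exact fromSpecStalk_over k (genericPoint X)⟩ }
  have hex : ValuativeCriterion.Existence (X ↘ Spec (CommRingCat.of k)) := by
    have h : IsProper (X ↘ Spec (CommRingCat.of k)) := inferInstance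
    rw [IsProper.eq_valuativeCriterion] at h
    exact h.1.1.1.existence
  obtain ⟨⟨l, hl, -⟩⟩ := (CommSq.HasLift.iff _).1 (hex S)
  let x : X := l (closedPoint V)
  have hspec : genericPoint X ⤳ x := (genericPoint_spec X).specializes trivial
  have h2 : Scheme.stalkClosedPointTo l ≫ CommRingCat.ofHom (algebraMap V X.functionField) =
      X.presheaf.stalkSpecializes hspec := by
    apply Spec.map_injective
    rw [← cancel_mono (X.fromSpecStalk x), Spec.map_comp, Category.assoc,
      Scheme.Spec_stalkClosedPointTo_fromSpecStalk, Scheme.SpecMap_stalkSpecializes_fromSpecStalk]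
    exact hl
  exact ⟨x, (Scheme.stalkClosedPointTo l).hom, Scheme.isLocalHom_stalkClosedPointTo' l,
    fun r => ConcreteCategory.congr_hom h2 r⟩

theorem valuation_eq_of_O_eq {P Q : Place k X.functionField} (h : P.O = Q.O) : P = Q := by
  have he : P.1.IsEquiv Q.1 := (Valuation.isEquiv_iff_valuationSubring _ _).2 h
  have hπ : ∀ {A B : Place k X.functionField}, A.1.IsEquiv B.1 → ∀ {π : X.functionField},
      A.1 π = exp (-1) → B.1 π ≤ exp (-1) := by
    intro A B hAB π hπ
    rw [← zero_sub (1 : ℤ), FunFld.le_exp_sub_one_iff, exp_zero]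
    exact hAB.lt_one_iff_lt_one.1 (hπ ▸ exp_lt_exp.2 (by norm_num : (-1 : ℤ) < 0) |>.trans_eq exp_zero)
  obtain ⟨π, hπP⟩ := P.2.2 (exp (-1))
  obtain ⟨π', hπQ⟩ := Q.2.2 (exp (-1))
  have h1 : Q.1 π = exp (-1) := by
    refine le_antisymm (hπ he hπP) ?_
    have h2 : P.1 π' ≤ P.1 π := (hπ he.symm hπQ).trans_eq hπP.symm
    exact hπQ.symm.trans_le ((he π' π).1 h2)
  refine Subtype.ext (Valuation.ext fun z => ?_)
  by_cases hz : z = 0
  · simp [hz]
  obtain ⟨n, hn⟩ : ∃ n : ℤ, P.1 z = exp n := ⟨_, (exp_log ((Valuation.ne_zero_iff _).2 hz)).symm⟩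
  have h3 : P.1 (z * π ^ n) = 1 := by
    rw [map_mul, map_zpow₀, hn, hπP, ← exp_zsmul, ← exp_add, ← exp_zero]; simp
  have h4 := he.eq_one_iff_eq_one.1 h3
  rw [map_mul, map_zpow₀, h1, ← exp_zsmul] at h4
  rw [hn]
  have := mul_eq_one_iff_eq_inv₀ exp_ne_zero |>.1 h4
  rw [this, ← exp_neg]
  simp

theorem place_injective [IsProper (X ↘ Spec (CommRingCat.of k))] :
    Function.Injective (place (X := X) k) := by
  intro x y h
  apply Subtype.ext
  have huniq : ValuativeCriterion.Uniqueness (X ↘ Spec (CommRingCat.of k)) := by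
    have hp : IsProper (X ↘ Spec (CommRingCat.of k)) := inferInstance
    rw [IsProper.eq_valuativeCriterion] at hp
    exact hp.1.1.1.uniqueness
  let V := (place (X := X) k x).O
  let toV : ∀ (z : CP X), (place k z).O = V → (X.presheaf.stalk z.1 →+* V) := fun z hz =>
    (algebraMap (X.presheaf.stalk z.1) X.functionField).codRestrict V.toSubring
      fun r => hz ▸ (mem_place_O k).2 ⟨r, rfl⟩
  have hloc : ∀ (z : CP X) (hz : (place k z).O = V), IsLocalHom (toV z hz) := fun z hz => ⟨fun r hr => by
    by_contra hu
    have h1 := (place_lt_one_iff (X := X) k).2 ((mem_maximalIdeal r).2 hu)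
    obtain ⟨b, hb⟩ := hr.exists_right_inv
    have h2 : (place k z).1 (algebraMap _ X.functionField r) * (place k z).1 (b : X.functionField) = 1 :=
      (map_mul (place k z).1 _ _).symm.trans
        ((congrArg (place k z).1 (congrArg Subtype.val hb)).trans (map_one (place k z).1))
    have h3 : (place k z).1 (b : X.functionField) ≤ 1 := by
      show (b : X.functionField) ∈ (place k z).O
      rw [hz]
      exact b.2
    exact absurd (h2.symm.trans_le (mul_le_of_le_one_right' h3)) (not_le.2 h1)⟩
  have hy : (place k y).O = V := by rw [← h]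
  let mkLift : ∀ (z : CP X) (_ : (place k z).O = V), Spec (CommRingCat.of V) ⟶ X := fun z hz =>
    Spec.map (CommRingCat.ofHom (toV z hz)) ≫ X.fromSpecStalk z.1
  have hfac : ∀ (z : CP X) (hz : (place k z).O = V),
      Spec.map (CommRingCat.ofHom (algebraMap V X.functionField)) ≫ mkLift z hz =
        X.fromSpecStalk (genericPoint X) := fun z hz => by
    rw [← Category.assoc, ← Spec.map_comp, ← Scheme.SpecMap_stalkSpecializes_fromSpecStalk
      ((genericPoint_spec X).specializes (show z.1 ∈ ⊤ from trivial))]
    rfl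
  have hbot : ∀ (z : CP X) (hz : (place k z).O = V), mkLift z hz ≫ (X ↘ Spec (CommRingCat.of k)) =
      Spec.map (CommRingCat.ofHom ((algebraMap k X.functionField).codRestrict V.toSubring
        fun c => (place (X := X) k x).2.1 c)) := fun z hz => by
    rw [Category.assoc, fromSpecStalk_over, ← Spec.map_comp]
    congr 1
    refine CommRingCat.hom_ext (RingHom.ext fun c => Subtype.ext ?_)
    exact algebraMap_cst k z.1 c
  have hxV : (place k x).O = V := rfl
  let S : ValuativeCommSq (X ↘ Spec (CommRingCat.of k)) :=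
    { R := V, K := X.functionField, i₁ := X.fromSpecStalk (genericPoint X)
      i₂ := Spec.map (CommRingCat.ofHom ((algebraMap k X.functionField).codRestrict V.toSubring
        fun c => (place (X := X) k x).2.1 c))
      commSq := ⟨by rw [← hfac x hxV, Category.assoc, hbot x hxV]⟩ }
  have hsub := huniq S
  have e : mkLift x hxV = mkLift y hy :=
    congrArg CommSq.LiftStruct.l (@Subsingleton.elim _ hsub ⟨mkLift x hxV, hfac x hxV, hbot x hxV⟩ ⟨mkLift y hy, hfac y hy, hbot y hy⟩)
  have hpt : ∀ (z : CP X) (hz : (place k z).O = V), mkLift z hz (closedPoint V) = z.1 := fun z hz => by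
    haveI := hloc z hz
    rw [Scheme.Hom.comp_apply]
    rw [show (Spec.map (CommRingCat.ofHom (toV z hz))) (closedPoint V) = closedPoint (X.presheaf.stalk z.1) from
      Spec_closedPoint, Scheme.fromSpecStalk_closedPoint]
  rw [← hpt x hxV, e, hpt y hy]

theorem place_surjective [IsProper (X ↘ Spec (CommRingCat.of k))] :
    Function.Surjective (place (X := X) k) := by
  intro P
  obtain ⟨x, φ, hφ, hval⟩ := exists_center P.O (fun c => P.2.1 c)
  have hx : x ≠ genericPoint X := by
    rintro rfl
    obtain ⟨z, hz⟩ := P.2.2 (exp 1)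
    have : (φ z : X.functionField) = z := by
      rw [hval]; exact ConcreteCategory.congr_hom (TopCat.Presheaf.stalkSpecializes_refl X.presheaf (genericPoint X)) z
    have h2 : P.1 z ≤ 1 := by
      have := (φ z).2
      rwa [‹(φ z : X.functionField) = z›] at this
    rw [hz, ← exp_zero, exp_le_exp] at h2
    omega
  refine ⟨⟨x, hx⟩, valuation_eq_of_O_eq (SetLike.ext fun z => ?_)⟩
  rw [mem_place_O]
  constructor
  · rintro ⟨r, rfl⟩
    exact hval r ▸ (φ r).2
  · intro hz
    by_contra hn
    have hn' : z⁻¹ ∈ (place k (⟨x, hx⟩ : CP X)).O :=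
      ((place k (⟨x, hx⟩ : CP X)).O.mem_or_inv_mem z).resolve_left fun h => hn ((mem_place_O k).1 h)
    obtain ⟨r, hr⟩ := (mem_place_O k).1 hn'
    have hru : ¬ IsUnit r := fun hu => by
      obtain ⟨s, hs⟩ := hu.exists_right_inv
      refine hn ⟨s, ?_⟩
      have h1 := congrArg (algebraMap (X.presheaf.stalk x) X.functionField) hs
      rw [map_mul, map_one, hr] at h1
      have h2 : z⁻¹ ≠ 0 := left_ne_zero_of_mul_eq_one h1
      exact mul_left_cancel₀ h2 (h1.trans (inv_mul_cancel₀ (by simpa using h2)).symm)
    refine hru (hφ.map_nonunit r ?_)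
    have hz0 : z ≠ 0 := fun h => hn ⟨0, by rw [map_zero, h]⟩
    refine isUnit_iff_exists_inv.2 ⟨⟨z, hz⟩, Subtype.ext ?_⟩
    show (φ r : X.functionField) * z = 1
    rw [hval, hr, inv_mul_cancel₀ hz0]

variable (k)

/-- Closed points are the places. -/
noncomputable def placeEquiv [IsProper (X ↘ Spec (CommRingCat.of k))] : CP X ≃ Place k X.functionField :=
  Equiv.ofBijective (place k) ⟨place_injective, place_surjective⟩

/-- The function field is finitely generated of transcendence degree one. -/
theorem isFG [IsProper (X ↘ Spec (CommRingCat.of k))] : FunFld.IsFG k X.functionField := by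
  obtain ⟨_, ⟨U, hU, rfl⟩, hxU, -⟩ :=
    X.isBasis_affineOpens.exists_subset_of_mem_open (Set.mem_univ (genericPoint X)) isOpen_univ
  have : Nonempty U := ⟨⟨_, hxU⟩⟩
  obtain ⟨m, hm, hopen⟩ := Dim.exists_nat_dim_open (X ↘ Spec (CommRingCat.of k))
  have hU1 : ringKrullDim Γ(X, U) = (1 : ℕ) := by
    rw [← Dim.topologicalKrullDim_affineOpen hU, hopen U ‹_›, ← hm, RegCurve.dim]; norm_num
  let ψ : k →+* Γ(X, U) :=
    (X.presheaf.map (homOfLE (le_top : U ≤ ⊤)).op).hom.comp (Coh.toGlobal (X ↘ Spec (CommRingCat.of k)))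
  have hψ : ψ.FiniteType :=
    LocallyOfFiniteType.finiteType_appLE (X ↘ Spec (CommRingCat.of k)) (isAffineOpen_top _) hU (le_of_le_of_eq le_top rfl)
      |>.comp (RingHom.FiniteType.of_surjective _ (Scheme.ΓSpecIso (CommRingCat.of k)).commRingCatIsoToRingEquiv.symm.surjective)
  algebraize [ψ]
  obtain ⟨n, htr, hn⟩ := Dim.exists_nat_trdeg_eq_and_ringKrullDim_eq k Γ(X, U)
  have hn1 : n = 1 := by rw [hU1] at hn; exact_mod_cast hn.symm
  have : IsScalarTower k Γ(X, U) X.functionField := IsScalarTower.of_algebraMap_eq fun c => by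
    exact (TopCat.Presheaf.germ_res_apply X.presheaf _ _ hxU _).symm
  have := functionField_isFractionRing_of_isAffineOpen X U hU
  have : FaithfulSMul k Γ(X, U) := (faithfulSMul_iff_algebraMap_injective k Γ(X, U)).mpr (algebraMap k Γ(X, U)).injective
  have : FaithfulSMul Γ(X, U) X.functionField := (faithfulSMul_iff_algebraMap_injective _ _).mpr
    (IsFractionRing.injective Γ(X, U) X.functionField)
  have : Algebra.IsAlgebraic Γ(X, U) X.functionField := IsLocalization.isAlgebraic _ (nonZeroDivisors Γ(X, U))
  have htrK : Algebra.trdeg k X.functionField = 1 := by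
    rw [← trdeg_add_eq k Γ(X, U) (A := ↑X.functionField), htr, trdeg_eq_zero, hn1]; simp
  obtain ⟨ι, y, hy⟩ := exists_isTranscendenceBasis' k X.functionField
  have hc : Cardinal.mk ι = 1 := by rw [← htrK]; exact hy.cardinalMk_eq_trdeg
  haveI := (Cardinal.eq_one_iff_unique.1 hc).1
  obtain ⟨i⟩ := (Cardinal.eq_one_iff_unique.1 hc).2
  refine ⟨y i, hy.1.transcendental i, ?_⟩
  haveI : Algebra.EssFiniteType Γ(X, U) X.functionField :=
    Algebra.EssFiniteType.of_isLocalization _ (nonZeroDivisors Γ(X, U))
  haveI : Algebra.EssFiniteType k X.functionField := Algebra.EssFiniteType.comp k Γ(X, U) _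
  let L := IntermediateField.adjoin k ({y i} : Set X.functionField)
  haveI : Algebra.EssFiniteType L X.functionField := Algebra.EssFiniteType.of_comp k L _
  haveI : Algebra.IsAlgebraic L X.functionField := by
    have hr : Set.range y = {y i} := by
      ext z; constructor
      · rintro ⟨j, rfl⟩; exact congrArg y (Subsingleton.elim j i)
      · rintro rfl; exact ⟨i, rfl⟩
    have := hy.isAlgebraic_field
    rwa [hr] at this
  exact Algebra.finite_of_essFiniteType_of_isAlgebraic

end GrothLib.CurveRR
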