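import Groth.Agent.Lib.CurveRR.Setup
import Groth.Agent.Lib.Euler.Torsion
import Groth.Agent.Lib.QCoh.DevissageRoots

/-!
# Functionals on the first cohomology of a bundle come from maps to the canonical sheaf
-/

set_option linter.style.haveILetI false

universe u

open CategoryTheory CategoryTheory.Limits AlgebraicGeometry TopologicalSpace Opposite WithZero Abelian
open _root_.FunFld (Place Divisor)
open GrothLib.ProjCoh (ratFun genericPoint_mem)
open GrothLib.QCoh (stalkLin stalkLin_germ)
open GrothLib.FinCov (IsFrame)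

namespace GrothLib.CurveRR

theorem hhMap_add {X : Scheme.{u}} {A : Type u} [CommRing A] [X.Over (Spec (CommRingCat.of A))]
    {M N : X.Modules} (f g : M ⟶ N) (n : ℕ) (x : Coh.HH X M n) :
    Cohom.hhMap A (f + g) n x = Cohom.hhMap A f n x + Cohom.hhMap A g n x := by
  rw [Cohom.hhMap_apply, Cohom.hhMap_apply, Cohom.hhMap_apply,
    show (QCoh.toAbFun X).map (f + g) = (QCoh.toAbFun X).map f + (QCoh.toAbFun X).map g from Functor.map_add _,
    Cohom.H_map_eq_comp, Ext.mk₀_add, Ext.comp_add]
  rfl

theorem hhMap_zero_hom {X : Scheme.{u}} {A : Type u} [CommRing A] [X.Over (Spec (CommRingCat.of A))]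
    {M N : X.Modules} (n : ℕ) (x : Coh.HH X M n) : Cohom.hhMap A (0 : M ⟶ N) n x = 0 := by
  have := hhMap_add (A := A) (0 : M ⟶ N) 0 n x
  rw [add_zero] at this
  exact left_eq_add.1 this

theorem hhMap_sum {X : Scheme.{u}} {A : Type u} [CommRing A] [X.Over (Spec (CommRingCat.of A))]
    {M N : X.Modules} {ι : Type*} (s : Finset ι) (f : ι → (M ⟶ N)) (n : ℕ) (x : Coh.HH X M n) :
    Cohom.hhMap A (∑ i ∈ s, f i) n x = ∑ i ∈ s, Cohom.hhMap A (f i) n x :=
  map_sum (AddMonoidHom.mk' (fun φ : M ⟶ N => Cohom.hhMap A φ n x) fun f g => hhMap_add f g n x) f s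

variable {k : Type u} [Field k] {X : Scheme.{u}} [IsIntegral X] [RegCurve X]
  [X.Over (Spec (CommRingCat.of k))] [IsProper (X ↘ Spec (CommRingCat.of k))]

/-- Multiplication by a rational function. -/
noncomputable def mult {D E : Divisor k X.functionField} (c : X.functionField)
    (hc : c ∈ _root_.FunFld.L (E - D)) : oD k D ⟶ oD k E :=
  ⟨PresheafOfModules.homMk
    { app := fun V => AddCommGrpCat.ofHom
        { toFun := fun s => (oDData k E).lift (fun hV => c * oval k s hV.down) fun x hx => by
            show (place k x).1 (c * oval k s _) ≤ _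
            rw [map_mul, show exp (E (place k x)) = exp ((E - D) (place k x)) * exp (D (place k x)) by
              rw [← exp_add, Finsupp.sub_apply, sub_add_cancel]]
            exact mul_le_mul' (hc _) (oval_bound s x hx)
          map_zero' := oval_ext fun hV => show c * 0 = 0 from mul_zero c
          map_add' := fun s t => oval_ext fun hV => by
            show c * oval k (s + t) hV = c * oval k s hV + c * oval k t hV
            exact mul_add c (oval k s hV) (oval k t hV) }
      naturality := fun _ _ _ => rfl } fun V a s => oval_ext fun hV => by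
        show c * (X.presheaf.germ V.unop _ hV (show Γ(X, V.unop) from a) * oval k s hV) =
          X.presheaf.germ V.unop _ hV (show Γ(X, V.unop) from a) * (c * oval k s hV)
        rw [mul_left_comm]⟩

theorem oval_mult {D E : Divisor k X.functionField} {c : X.functionField}
    (hc : c ∈ _root_.FunFld.L (E - D)) {V : X.Opens} (s : Γ(oD k D, V)) (hV : genericPoint X ∈ V) :
    oval k ((mult c hc).app V s) hV = c * oval k s hV := rfl

theorem mult_comp {D E F : Divisor k X.functionField} {a b : X.functionField}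
    (ha : a ∈ _root_.FunFld.L (E - D)) (hb : b ∈ _root_.FunFld.L (F - E)) (hab : b * a ∈ _root_.FunFld.L (F - D)) :
    mult a ha ≫ mult b hb = mult (b * a) hab :=
  Scheme.Modules.hom_ext _ _ fun V => AddCommGrpCat.ext fun s => oval_ext fun hV => (mul_assoc b a (oval k s hV)).symm

theorem mult_congr {D E : Divisor k X.functionField} {a b : X.functionField} (h : a = b)
    (ha : a ∈ _root_.FunFld.L (E - D)) (hb : b ∈ _root_.FunFld.L (E - D)) : mult a ha = mult b hb := by
  subst h; rfl

theorem hhMap_mult_add {D E : Divisor k X.functionField} {a b : X.functionField}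
    (ha : a ∈ _root_.FunFld.L (E - D)) (hb : b ∈ _root_.FunFld.L (E - D)) (n : ℕ) (z : Coh.HH X (oD k D) n) :
    Cohom.hhMap k (mult (a + b) (add_mem ha hb)) n z =
      Cohom.hhMap k (mult a ha) n z + Cohom.hhMap k (mult b hb) n z := by
  rw [← hhMap_add]
  congr 2
  exact Scheme.Modules.hom_ext _ _ fun V => AddCommGrpCat.ext fun s => oval_ext fun hV =>
    add_mul a b (oval k s hV)

theorem hhMap_mult_smul {D E : Divisor k X.functionField} (c : k) {a : X.functionField}
    (ha : a ∈ _root_.FunFld.L (E - D)) (n : ℕ) (z : Coh.HH X (oD k D) n) :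
    Cohom.hhMap k (mult (c • a) (Submodule.smul_mem _ c ha)) n z = c • Cohom.hhMap k (mult a ha) n z := by
  show Sheaf.H.map _ n z = Sheaf.H.map (Coh.smulAb (oD k E) (Coh.toGlobal (X ↘ Spec (CommRingCat.of k)) c)) n
    (Sheaf.H.map _ n z)
  rw [← Sheaf.H.map_comp_apply]
  refine congrArg (fun φ => Sheaf.H.map φ n z) ?_
  apply ObjectProperty.hom_ext
  ext V s
  refine oval_ext (k := k) (D := E) fun hV => ?_
  show (c • a) * oval k s hV = X.presheaf.germ V.unop _ hV (Coh.resTop X V (Coh.toGlobal (X ↘ Spec (CommRingCat.of k)) c)) * (a * oval k s hV)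
  rw [Algebra.smul_def, mul_assoc]
  congr 1
  exact ((TopCat.Presheaf.germ_res_apply X.presheaf (homOfLE (le_top : V.unop ≤ ⊤)) (genericPoint X) hV
    (Coh.toGlobal (X ↘ Spec (CommRingCat.of k)) c)).trans (germ_toGlobal k c)).symm

theorem surjective_H1_of_generic {M N : X.Modules} (f : M ⟶ N) [Mono f] (hM : Coh.IsCoh M) (hN : Coh.IsCoh N)
    (hη : Function.Surjective (stalkLin f (genericPoint X))) : Function.Surjective (Cohom.hhMap k f 1) := by
  intro y
  haveI := Euler.isNoetherian_of_proper (X := X) k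
  let S := ShortComplex.mk f (cokernel.π _) (cokernel.condition f)
  have hS : S.ShortExact := { exact := ShortComplex.exact_of_g_is_cokernel _ (cokernelIsCokernel _) }
  obtain ⟨hfin, hcl⟩ := Euler.finite_support_of_notMem_genericPoint k RegCurve.dim.le
    (QCoh.isCoh_cokernel _ hM hN) (QCoh.notMem_support_cokernel_of_surjective _ hη)
  exact (Cohom.exact₂ (A := k) hS 1 y).1
    (@Subsingleton.elim _ (Euler.subsingleton_HH_of_finite_support _ hfin hcl 1 le_rfl) _ _)

theorem surjective_H1_mult {D E : Divisor k X.functionField} {c : X.functionField} (hc0 : c ≠ 0)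
    (hc : c ∈ _root_.FunFld.L (E - D)) : Function.Surjective (Cohom.hhMap k (mult c hc) 1) := by
  haveI : Mono (mult c hc) := QCoh.mono_of_app_injective _ fun V s t hst => oval_ext fun hV =>
    mul_left_cancel₀ hc0 (congrArg (fun u => oval k u hV) hst)
  refine surjective_H1_of_generic _ (isCoh_oD k D) (isCoh_oD k E) fun v => ?_
  obtain ⟨U, hU, t, rfl⟩ := TopCat.Presheaf.exists_germ_eq (oD k E).presheaf v
  obtain ⟨V, hV⟩ := exists_open_avoiding ((finite_bad k D (oval k t hU / c)).union (finite_bad k D 1))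
  have hηV : genericPoint X ∈ V := (hV _).2 fun z _ => z.2
  refine ⟨(oD k D).presheaf.germ (U ⊓ V) _ ⟨hU, hηV⟩ (mkSec k D (U ⊓ V) (oval k t hU / c) fun P hP => ?_), ?_⟩
  · have h1 := fun hb => (hV P.1).1 hP.2 P hb rfl
    have hD : D (place k P) = 0 := by by_contra hc'; exact h1 (Or.inl (Or.inl hc'))
    have ho : (place k P).ord (oval k t hU / c) = 0 := by by_contra hc'; exact h1 (Or.inl (Or.inr hc'))
    rcases eq_or_ne (oval k t hU / c) 0 with h0 | h0
    · rw [h0, map_zero]; exact zero_le
    · rw [FunFld.val_eq (place k P) h0, ho, hD, neg_zero]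
  · rw [stalkLin_germ, ← TopCat.Presheaf.germ_res_apply (oD k E).presheaf (homOfLE (inf_le_left : U ⊓ V ≤ U)) (genericPoint X) ⟨hU, hηV⟩ t]
    refine congrArg _ (oval_ext fun hη => ?_)
    rw [oval_mult, oval_mkSec, mul_div_cancel₀ _ hc0, oval_map]

section pairing

variable {C : Divisor k X.functionField} (hK : _root_.FunFld.IsFunctionField k X.functionField)
  (hC : _root_.FunFld.IsCanonical k X.functionField C)

include hK hC in
theorem finrank_H1_canonical : Module.finrank k (Coh.HH X (oD k C) 1) = 1 := by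
  rw [finrank_H1_oD k hK hC, sub_self, FunFld.ell_zero hK]

/-- The pairing with values in `H¹` of the canonical sheaf. -/
noncomputable def pairing (C D : Divisor k X.functionField) :
    _root_.FunFld.L (C - D) →ₗ[k] (Coh.HH X (oD k D) 1 →ₗ[k] Coh.HH X (oD k C) 1) where
  toFun c := Cohom.hhMap k (mult c.1 c.2) 1
  map_add' a b := LinearMap.ext fun z => hhMap_mult_add a.2 b.2 1 z
  map_smul' c a := LinearMap.ext fun z => hhMap_mult_smul c a.2 1 z

include hK hC in
theorem pairing_bijective (D : Divisor k X.functionField) : Function.Bijective (pairing C D) := by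
  have hfg : FunFld.IsFG k X.functionField := hK.1
  haveI := hfg.finite_L (C - D)
  haveI := Euler.finiteDimensional_HH k (isCoh_oD k D) 1
  haveI := Euler.finiteDimensional_HH k (isCoh_oD k C) 1
  have hinj : Function.Injective (pairing C D) := (injective_iff_map_eq_zero _).2 fun c hc => by
    by_contra hne
    obtain ⟨y, hy⟩ := Module.finrank_pos_iff_exists_ne_zero.1
      (show 0 < Module.finrank k (Coh.HH X (oD k C) 1) by rw [finrank_H1_canonical hK hC]; exact one_pos)
    obtain ⟨z, rfl⟩ := surjective_H1_mult (fun h => hne (Subtype.ext h)) c.2 y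
    exact hy (LinearMap.congr_fun hc z)
  refine ⟨hinj, (LinearMap.injective_iff_surjective_of_finrank_eq_finrank ?_).1 hinj⟩
  rw [Module.finrank_linearMap, finrank_H1_canonical hK hC, mul_one, finrank_H1_oD k hK hC]
  rfl

end pairing

section bundle

variable {E : X.Modules} (hE : FlatMod.IsFinLocFree E)

omit [RegCurve X] [X.Over (Spec (CommRingCat.of k))] [IsProper (X ↘ Spec (CommRingCat.of k))] in
include hE in
theorem germ_generic_injective {W : X.Opens} (hη : genericPoint X ∈ W) :
    Function.Injective (E.presheaf.germ W (genericPoint X) hη) := by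
  refine (injective_iff_map_eq_zero (E.presheaf.germ W (genericPoint X) hη).hom).2 fun s hs => ?_
  refine QCoh.section_eq_zero_of_germ E s fun z hz => ?_
  obtain ⟨T, n, e, hzT, he⟩ := FinCov.exists_frame_nhd hE z
  have h1 := Euler.eq_zero_of_frame_of_germ_generic he (inf_le_right : W ⊓ T ≤ T) ⟨hη, genericPoint_mem hzT⟩
    (E.presheaf.map (homOfLE (inf_le_left : W ⊓ T ≤ W)).op s) ((TopCat.Presheaf.germ_res_apply _ _ _ _ _).trans hs)
  rw [← TopCat.Presheaf.germ_res_apply E.presheaf (homOfLE (inf_le_left : W ⊓ T ≤ W)) z ⟨hz, hzT⟩ s, h1, map_zero]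

omit [RegCurve X] [X.Over (Spec (CommRingCat.of k))] [IsProper (X ↘ Spec (CommRingCat.of k))] in
include hE in
theorem exists_section_of_generic {W : X.Opens} (hη : genericPoint X ∈ W) (u : E.presheaf.stalk (genericPoint X))
    (hloc : ∀ z ∈ W, ∃ (T : X.Opens) (hzT : z ∈ T) (t : Γ(E, T)),
      E.presheaf.germ T (genericPoint X) (genericPoint_mem hzT) t = u) :
    ∃ s : Γ(E, W), E.presheaf.germ W (genericPoint X) hη s = u := by
  choose T hzT t ht using fun z : W => hloc z.1 z.2
  let U : W → X.Opens := fun z => T z ⊓ W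
  let sf : ∀ z, Γ(E, U z) := fun z => E.presheaf.map (homOfLE inf_le_left).op (t z)
  have e : ∀ z : W, E.presheaf.germ (U z) _ ⟨genericPoint_mem (hzT z), hη⟩ (sf z) = u := fun z =>
    (TopCat.Presheaf.germ_res_apply _ _ _ _ _).trans (ht z)
  have hc : TopCat.Presheaf.IsCompatible E.presheaf U sf := fun a b => by
    have hη' : genericPoint X ∈ U a ⊓ U b :=
      ⟨⟨genericPoint_mem (hzT a), hη⟩, ⟨genericPoint_mem (hzT b), hη⟩⟩
    refine germ_generic_injective hE hη' ?_
    exact (TopCat.Presheaf.germ_res_apply E.presheaf _ _ hη' (sf a)).trans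
      ((e a).trans ((e b).symm.trans (TopCat.Presheaf.germ_res_apply E.presheaf _ _ hη' (sf b)).symm))
  obtain ⟨g, hg, -⟩ := TopCat.Sheaf.existsUnique_gluing' ⟨E.presheaf, E.isSheaf⟩ U W
    (fun z => homOfLE inf_le_right) (fun y hy => Opens.mem_iSup.2 ⟨⟨y, hy⟩, hzT ⟨y, hy⟩, hy⟩) sf hc
  let g' : Γ(E, W) := g
  refine ⟨g', ?_⟩
  rw [← TopCat.Presheaf.germ_res_apply E.presheaf (homOfLE (inf_le_right : U ⟨_, hη⟩ ≤ W)) (genericPoint X)
    ⟨genericPoint_mem (hzT ⟨_, hη⟩), hη⟩ g']
  exact (congrArg _ (hg ⟨_, hη⟩)).trans (e ⟨_, hη⟩)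

omit [IsProper (X ↘ Spec (CommRingCat.of k))] in
theorem germ_smul_generic {W : X.Opens} (hη : genericPoint X ∈ W) (a : Γ(X, W)) (s : Γ(E, W)) :
    E.presheaf.germ W (genericPoint X) hη (a • s) =
      X.presheaf.germ W (genericPoint X) hη a • E.presheaf.germ W (genericPoint X) hη s :=
  WeakAss.germ_smul ..

/-- A vector in the generic stalk which gives a map `O(D) ⟶ E`. -/
def Adm (E : X.Modules) (D : Divisor k X.functionField) (v : E.presheaf.stalk (genericPoint X)) : Prop :=
  ∀ (z : CP X) (c : X.presheaf.stalk (genericPoint X)), (place k z).1 c ≤ exp (D (place k z)) →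
    ∃ (T : X.Opens) (hzT : z.1 ∈ T) (t : Γ(E, T)), E.presheaf.germ T (genericPoint X) (genericPoint_mem hzT) t = c • v

include hE in
theorem exists_vecHom {D : Divisor k X.functionField} {v : E.presheaf.stalk (genericPoint X)} (hv : Adm E D v) :
    ∃ f : oD k D ⟶ E, ∀ (W : X.Opens) (hη : genericPoint X ∈ W) (s : Γ(oD k D, W)),
      E.presheaf.germ W (genericPoint X) hη (f.app W s) =
        (show X.presheaf.stalk (genericPoint X) from oval k s hη) • v := by
  classical
  have hex : ∀ (W : X.Opens) (s : Γ(oD k D, W)), ∃ t : Γ(E, W), ∀ hη : genericPoint X ∈ W,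
      E.presheaf.germ W (genericPoint X) hη t = (show X.presheaf.stalk (genericPoint X) from oval k s hη) • v := by
    intro W s
    by_cases hη : genericPoint X ∈ W
    · obtain ⟨t, ht⟩ := exists_section_of_generic hE hη ((show X.presheaf.stalk (genericPoint X) from oval k s hη) • v)
        fun z hz => by
          by_cases hzη : z = genericPoint X
          · obtain ⟨T, hT, t, ht⟩ := TopCat.Presheaf.exists_germ_eq E.presheaf
              ((show X.presheaf.stalk (genericPoint X) from oval k s hη) • v)
            exact ⟨T, hzη ▸ hT, t, ht⟩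
          · exact hv ⟨z, hzη⟩ _ (oval_bound s ⟨z, hzη⟩ hz)
      exact ⟨t, fun _ => ht⟩
    · exact ⟨0, fun h => absurd h hη⟩
  choose g hg using hex
  have huniq : ∀ (W : X.Opens) (a b : Γ(E, W)),
      (∀ hη : genericPoint X ∈ W, E.presheaf.germ W _ hη a = E.presheaf.germ W _ hη b) → a = b := by
    intro W a b h
    by_cases hη : genericPoint X ∈ W
    · exact germ_generic_injective hE hη (h hη)
    · rw [← sub_eq_zero]
      exact QCoh.section_eq_zero_of_germ E _ fun y hy => absurd (genericPoint_mem hy) hη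
  refine ⟨⟨PresheafOfModules.homMk
    { app := fun W => AddCommGrpCat.ofHom
        { toFun := fun s => g W.unop s
          map_zero' := huniq _ _ _ fun hη => by
            rw [hg]
            exact (zero_smul _ v).trans (map_zero (E.presheaf.germ W.unop (genericPoint X) hη).hom).symm
          map_add' := fun s t => huniq _ _ _ fun hη => by
            refine (hg _ _ hη).trans (Eq.trans ?_ (map_add (E.presheaf.germ W.unop (genericPoint X) hη).hom _ _).symm)
            exact (add_smul _ _ v).trans (congr (congrArg HAdd.hAdd (hg _ s hη).symm) (hg _ t hη).symm) }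
      naturality := fun W W' i => AddCommGrpCat.ext fun s => huniq _ _ _ fun hη => by
        show E.presheaf.germ W'.unop _ hη (g W'.unop _) = E.presheaf.germ W'.unop _ hη (E.presheaf.map i.unop.op (g W.unop s))
        rw [TopCat.Presheaf.germ_res_apply, hg, hg]
        rfl }
    fun W a s => huniq _ _ _ fun hη => by
      show E.presheaf.germ W.unop _ hη (g W.unop _) =
        E.presheaf.germ W.unop _ hη ((show Γ(X, W.unop) from a) • g W.unop s)
      rw [germ_smul_generic, hg, hg, smul_smul]
      congr 1⟩, fun W hη s => hg W s hη⟩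

/-- Every vector given by a section on `U` is admissible for some divisor supported off `U`. -/
theorem exists_adm {n : ℕ} {U : X.Opens} (s : Γ(E, U)) (hη : genericPoint X ∈ U)
    (hfr : ∀ z : X, ∃ (T : X.Opens) (e : Fin n → Γ(E, T)), z ∈ T ∧ IsFrame E T e) :
    ∃ D : Divisor k X.functionField, D ≤ 0 ∧ (∀ z : CP X, z.1 ∈ U → D (place k z) = 0) ∧
      ∀ D', D' ≤ D → Adm E D' (E.presheaf.germ U (genericPoint X) hη s) := by
  classical
  haveI := Euler.isNoetherian_of_proper (X := X) k
  choose T e hzT he using hfr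
  have hco : ∀ z : CP X, ∃ c : Fin n → X.presheaf.stalk (genericPoint X),
      (E.presheaf.germ U (genericPoint X) hη s =
        ∑ j, c j • E.presheaf.germ (T z.1) (genericPoint X) (genericPoint_mem (hzT z.1)) (e z.1 j)) ∧
      (z.1 ∈ U → ∀ j, (place k z).1 (c j) ≤ 1) := by
    intro z
    obtain ⟨a, ha⟩ := (he z.1 (U ⊓ T z.1) inf_le_right).2 (E.presheaf.map (homOfLE inf_le_left).op s)
    have hηW : genericPoint X ∈ U ⊓ T z.1 := ⟨hη, genericPoint_mem (hzT z.1)⟩
    refine ⟨fun j => X.presheaf.germ (U ⊓ T z.1) _ hηW (a j), ?_, fun hz j => place_germ_le_one k z (V := U ⊓ T z.1) ⟨hz, hzT z.1⟩ (a j)⟩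
    rw [← TopCat.Presheaf.germ_res_apply E.presheaf (homOfLE (inf_le_left : U ⊓ T z.1 ≤ U)) (genericPoint X) hηW s,
      ← ha, map_sum]
    refine Finset.sum_congr rfl fun j _ => ?_
    rw [germ_smul_generic, TopCat.Presheaf.germ_res_apply]
  choose c hc hcU using hco
  have hbad : {z : CP X | z.1 ∉ U}.Finite :=
    (CurvePoints.finite_of_isClosed RegCurve.dim.le U.isOpen.isClosed_compl
      (fun h => h hη)).preimage Subtype.val_injective.injOn
  let m : CP X → ℤ := fun z => -∑ j, max 0 (-(place k z).ord (c z j))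
  let D : Divisor k X.functionField := ∑ z ∈ hbad.toFinset, Finsupp.single (place k z) (m z)
  have hm : ∀ z, m z ≤ 0 := fun z => neg_nonpos.2 (Finset.sum_nonneg fun j _ => le_max_left _ _)
  have hDz : ∀ z : CP X, D (place k z) = if z.1 ∈ U then 0 else m z := by
    intro z
    show (∑ w ∈ hbad.toFinset, Finsupp.single (place k w) (m w)) (place k z) = _
    rw [Finsupp.finsetSum_apply]
    have hs : ∀ w, w ≠ z → Finsupp.single (place k w) (m w) (place k z) = 0 := fun w hw =>
      Finsupp.single_eq_of_ne' fun h => hw (place_injective h)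
    split_ifs with h
    · exact Finset.sum_eq_zero fun w hw => hs w fun e => (hbad.mem_toFinset.1 hw) (e ▸ h)
    · rw [Finset.sum_eq_single z (fun w _ hw => hs w hw) fun hz => absurd (hbad.mem_toFinset.2 h) hz,
        Finsupp.single_eq_same]
  have hD0 : D ≤ 0 := Finset.sum_nonpos fun z _ => Finsupp.single_nonpos.2 (hm z)
  refine ⟨D, hD0, fun z hz => by rw [hDz, if_pos hz], fun D' hD' z d hd => ?_⟩
  have hjd : ∀ j, (place k z).1 (d * c z j) ≤ 1 := by
    intro j
    rw [map_mul]
    by_cases hzU : z.1 ∈ U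
    · refine mul_le_one' (hd.trans ?_) (hcU z hzU j)
      rw [← exp_zero, exp_le_exp]
      exact (hD' _).trans (hD0 _)
    · rcases eq_or_ne (c z j) 0 with h0 | h0
      · rw [h0, map_zero, mul_zero]; exact zero_le
      · rw [FunFld.val_eq (place k z) h0]
        refine (mul_le_mul' hd le_rfl).trans ?_
        rw [← exp_add, ← exp_zero, exp_le_exp]
        have h1 : D' (place k z) ≤ D (place k z) := hD' _
        rw [hDz, if_neg hzU] at h1
        have h2 : max 0 (-(place k z).ord (c z j)) ≤ ∑ i, max 0 (-(place k z).ord (c z i)) :=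
          Finset.single_le_sum (fun i _ => le_max_left 0 (-(place k z).ord (c z i))) (Finset.mem_univ j)
        have h3 : -(place k z).ord (c z j) ≤ max 0 (-(place k z).ord (c z j)) := le_max_right _ _
        simp only [m] at h1
        omega
  have hsec : ∀ j, ∃ (W : X.Opens) (hzW : z.1 ∈ W) (a : Γ(X, W)),
      X.presheaf.germ W _ (genericPoint_mem hzW) a = d * c z j := by
    intro j
    obtain ⟨W, hzW, hW⟩ := exists_local_sec (0 : Divisor k X.functionField) z (d * c z j)
      (by simpa using hjd j)
    obtain ⟨a, ha⟩ := exists_section_of_regular k (genericPoint_mem hzW) (d * c z j)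
      fun w hw => by simpa using hW w hw
    exact ⟨W, hzW, a, ha⟩
  choose W hzW a ha using hsec
  let W₀ : X.Opens := T z.1 ⊓ ⟨⋂ j, (W j : Set X), isOpen_iInter_of_finite fun j => (W j).isOpen⟩
  have hzW₀ : z.1 ∈ W₀ := ⟨hzT z.1, Set.mem_iInter.2 hzW⟩
  have hle : ∀ j, W₀ ≤ W j := fun j y hy => Set.mem_iInter.1 hy.2 j
  refine ⟨W₀, hzW₀, ∑ j, X.presheaf.map (homOfLE (hle j)).op (a j) •
    E.presheaf.map (homOfLE (inf_le_left : W₀ ≤ T z.1)).op (e z.1 j), ?_⟩
  rw [map_sum, hc z, Finset.smul_sum]
  refine Finset.sum_congr rfl fun j _ => ?_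
  rw [germ_smul_generic, TopCat.Presheaf.germ_res_apply, TopCat.Presheaf.germ_res_apply, ha, smul_smul]

end bundle

end GrothLib.CurveRR
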