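import Groth.Agent.Lib.CurveRR.Main
import Groth.Agent.Lib.FunFld.GenusZero
import Groth.Agent.Lib.FunFld.Gaps
import Groth.Agent.Lib.FunFld.LinSeries

/-!
# Curves over an algebraically closed field: global functions, Clifford's theorem
-/

set_option linter.style.haveILetI false

universe u

open CategoryTheory CategoryTheory.Limits AlgebraicGeometry TopologicalSpace Opposite WithZero
open _root_.FunFld (Place Divisor L ell IsFunctionField)
open GrothLib.FunFld (IsFG val)

namespace GrothLib.CurveRR

theorem regCurve_of_regular {k : Type u} [Field k] {X : Scheme.{u}} [IsIntegral X]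
    [X.Over (Spec (CommRingCat.of k))] [IsProper (X ↘ Spec (CommRingCat.of k))] (hdim : topologicalKrullDim X = 1)
    (hreg : ∀ x : X, IsRegularLocalRing (X.presheaf.stalk x)) : RegCurve X :=
  haveI := Euler.isNoetherian_of_proper (X := X) k
  regCurve_of_isRegularLocalRing hdim fun x _ => hreg x

/-- Global functions on an integral proper scheme over an algebraically closed field are constants. -/
theorem finrank_H0_structure_eq_one (k : Type u) [Field k] [IsAlgClosed k] {X : Scheme.{u}} [IsIntegral X]
    [X.Over (Spec (CommRingCat.of k))] [IsProper (X ↘ Spec (CommRingCat.of k))] :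
    Module.finrank k (Coh.HH X (Coh.structureModule X) 0) = 1 := by
  let ψ : k →+* Γ(X, ⊤) := Coh.toGlobal (X ↘ Spec (CommRingCat.of k))
  letI : Algebra k Γ(X, ⊤) := ψ.toAlgebra
  let e : Coh.HH X (Coh.structureModule X) 0 ≃ₗ[k] Γ(X, ⊤) :=
    { ProjCoh.H0top (Coh.structureModule X) with
      map_smul' := fun a h => (ProjCoh.H0top_smul (Coh.structureModule X) a h).trans (Algebra.smul_def (R := k) (A := Γ(X, ⊤)) a (ProjCoh.H0top (Coh.structureModule X) h)).symm }
  haveI := Euler.finiteDimensional_HH k (Euler.isCoh_of_isInvertible (Euler.isInvertible_structure (X := X))) 0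
  haveI : Module.Finite k Γ(X, ⊤) := Module.Finite.equiv e
  haveI : Nonempty (⊤ : X.Opens) := ⟨⟨genericPoint X, trivial⟩⟩
  rw [e.finrank_eq]
  exact finrank_eq_one (1 : Γ(X, ⊤)) one_ne_zero fun w => by
    obtain ⟨c, hc⟩ := IsAlgClosed.algebraMap_bijective_of_isIntegral (k := k) (K := Γ(X, ⊤)) |>.2 w
    exact ⟨c, (Algebra.algebraMap_eq_smul_one c).symm.trans hc⟩

end GrothLib.CurveRR

namespace GrothLib.CurveRR.FF

variable {k K : Type*} [Field k] [Field K] [Algebra k K]

/-- A finite-dimensional space of functions has as many orders at a point as its dimension. -/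
theorem exists_orders [IsAlgClosed k] (h : IsFG k K) (P : Place k K) (U : Submodule k K) [Module.Finite k U] :
    ∃ (S : Finset ℤ) (f : ℤ → K), (∀ s ∈ S, f s ∈ U ∧ f s ≠ 0 ∧ P.ord (f s) = s) ∧ S.card = Module.finrank k U := by
  classical
  let S' : Set ℤ := {s | ∃ x ∈ U, x ≠ 0 ∧ P.ord x = s}
  have hbound : ∀ T : Finset ℤ, ↑T ⊆ S' → T.card ≤ Module.finrank k U := by
    intro T hT
    choose g hgU hg0 hgord using fun s : T => hT s.2
    have li : LinearIndependent k fun s : T => (⟨g s, hgU s⟩ : U) :=
      LinearIndependent.of_comp U.subtype (FunFld.linearIndependent_of_ord_injective P g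
        (fun a b hab => Subtype.ext (by simpa [hgord] using hab)) hg0)
    simpa using li.fintype_card_le_finrank
  have hfin : S'.Finite := by
    by_contra hc
    obtain ⟨T, hT, hTc⟩ := (Set.not_finite.1 hc).exists_subset_card_eq (Module.finrank k U + 1)
    have := hbound T hT
    omega
  let S := hfin.toFinset
  have hS : ∀ s ∈ S, ∃ x ∈ U, x ≠ 0 ∧ P.ord x = s := fun s hs => hfin.mem_toFinset.1 hs
  choose f hfU hf0 hford using hS
  let F : ℤ → K := fun s => if hs : s ∈ S then f s hs else 0
  have hF : ∀ s ∈ S, F s ∈ U ∧ F s ≠ 0 ∧ P.ord (F s) = s := fun s hs => by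
    simp only [F, dif_pos hs]; exact ⟨hfU s hs, hf0 s hs, hford s hs⟩
  refine ⟨S, F, hF, le_antisymm (hbound S (by simp [S])) ?_⟩
  have hspan : ∀ (N : ℕ) (x : K), x ∈ U → x ≠ 0 → (S.filter fun s => P.ord x ≤ s).card ≤ N →
      x ∈ Submodule.span k (S.image F : Set K) := by
    intro N
    induction N with
    | zero =>
      intro x hx hx0 hN
      have : P.ord x ∈ S.filter fun s => P.ord x ≤ s :=
        Finset.mem_filter.2 ⟨hfin.mem_toFinset.2 ⟨x, hx, hx0, rfl⟩, le_rfl⟩
      simp [Finset.card_eq_zero.1 (Nat.le_zero.1 hN)] at this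
    | succ N ih =>
      intro x hx hx0 hN
      have hs : P.ord x ∈ S := hfin.mem_toFinset.2 ⟨x, hx, hx0, rfl⟩
      obtain ⟨hFU, hF0, hFord⟩ := hF _ hs
      obtain ⟨c, hc⟩ := FunFld.exists_residue h P (t := x / F (P.ord x)) (by
        rw [map_div₀, FunFld.val_eq P hx0, FunFld.val_eq P hF0, hFord, div_self exp_ne_zero])
      have hmem : F (P.ord x) ∈ Submodule.span k (S.image F : Set K) :=
        Submodule.subset_span (Finset.mem_coe.2 (Finset.mem_image_of_mem F hs))
      by_cases hy : x - c • F (P.ord x) = 0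
      · rw [sub_eq_zero.1 hy]; exact Submodule.smul_mem _ _ hmem
      · have hylt : P.ord x < P.ord (x - c • F (P.ord x)) := by
          have e : x - c • F (P.ord x) = (x / F (P.ord x) - algebraMap k K c) * F (P.ord x) := by
            rw [sub_mul, div_mul_cancel₀ _ hF0, Algebra.smul_def]
          have h1 : val P (x - c • F (P.ord x)) < val P (F (P.ord x)) := by
            rw [e, map_mul]
            exact mul_lt_of_lt_one_left (zero_lt_iff.2 ((Valuation.ne_zero_iff _).2 hF0)) hc
          rw [FunFld.val_eq P hy, FunFld.val_eq P hF0, exp_lt_exp, hFord] at h1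
          omega
        have hlt : (S.filter fun s => P.ord (x - c • F (P.ord x)) ≤ s).card ≤ N := by
          refine Nat.le_of_lt_succ (lt_of_lt_of_le (Finset.card_lt_card ?_) hN)
          refine ⟨fun s hs' => ?_, fun hsub => ?_⟩
          · rw [Finset.mem_filter] at hs' ⊢; exact ⟨hs'.1, by omega⟩
          · have := hsub (Finset.mem_filter.2 ⟨hs, le_rfl⟩)
            rw [Finset.mem_filter] at this; omega
        have := Submodule.add_mem _ (ih _ (U.sub_mem hx (U.smul_mem c hFU)) hy hlt) (Submodule.smul_mem _ c hmem)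
        rwa [sub_add_cancel] at this
  have hle : U ≤ Submodule.span k (S.image F : Set K) := fun x hx => by
    rcases eq_or_ne x 0 with rfl | hx0
    · exact zero_mem _
    · exact hspan _ x hx hx0 le_rfl
  exact (Submodule.finrank_mono hle).trans ((finrank_span_finset_le_card _).trans Finset.card_image_le)

theorem ell_add_ell_le [IsAlgClosed k] (h : IsFunctionField k K) {D E : Divisor k K} (hD : 0 < ell D)
    (hE : 0 < ell E) : ell D + ell E ≤ ell (D + E) + 1 := by
  have hfg : IsFG k K := h.1
  obtain ⟨P⟩ := hfg.exists_place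
  haveI := hfg.finite_L D
  haveI := hfg.finite_L E
  haveI := hfg.finite_L (D + E)
  obtain ⟨S, f, hf, hS⟩ := exists_orders hfg P (L D)
  obtain ⟨T, g, hg, hT⟩ := exists_orders hfg P (L E)
  classical
  have hmul : ∀ r ∈ Finset.image₂ (· + ·) S T, ∃ x ∈ L (D + E), x ≠ 0 ∧ P.ord x = r := by
    intro r hr
    obtain ⟨s, hs, t, ht, rfl⟩ := Finset.mem_image₂.1 hr
    refine ⟨f s * g t, fun Q => ?_, mul_ne_zero (hf s hs).2.1 (hg t ht).2.1, ?_⟩
    · rw [map_mul, Finsupp.add_apply, exp_add]
      exact mul_le_mul' ((hf s hs).1 Q) ((hg t ht).1 Q)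
    · rw [FunFld.ord_mul P (hf s hs).2.1 (hg t ht).2.1, (hf s hs).2.2, (hg t ht).2.2]
  choose w hwU hw0 hword using hmul
  have li : LinearIndependent k fun r : Finset.image₂ (· + ·) S T => (⟨w r r.2, hwU r r.2⟩ : L (D + E)) :=
    LinearIndependent.of_comp (L (D + E)).subtype (FunFld.linearIndependent_of_ord_injective P _
      (fun a b hab => Subtype.ext (by simpa [hword] using hab)) fun r => hw0 r r.2)
  have h1 := li.fintype_card_le_finrank
  rw [Fintype.card_coe] at h1
  have hSne : S.Nonempty := Finset.card_pos.1 (by rw [hS]; exact hD)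
  have hTne : T.Nonempty := Finset.card_pos.1 (by rw [hT]; exact hE)
  have h2 : S.card + T.card ≤ (Finset.image₂ (· + ·) S T).card + 1 := by
    have hsub : S.image (· + T.min' hTne) ∪ T.image (S.max' hSne + ·) ⊆ Finset.image₂ (· + ·) S T := by
      intro r hr
      rcases Finset.mem_union.1 hr with hr | hr <;> obtain ⟨s, hs, rfl⟩ := Finset.mem_image.1 hr
      · exact Finset.mem_image₂.2 ⟨s, hs, _, T.min'_mem hTne, rfl⟩
      · exact Finset.mem_image₂.2 ⟨_, S.max'_mem hSne, s, hs, rfl⟩
    have hinter : (S.image (· + T.min' hTne) ∩ T.image (S.max' hSne + ·)).card ≤ 1 := by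
      refine Finset.card_le_one.2 fun a ha b hb => ?_
      simp only [Finset.mem_inter, Finset.mem_image] at ha hb
      obtain ⟨⟨s, hs, rfl⟩, t, ht, ht'⟩ := ha
      obtain ⟨⟨s', hs', rfl⟩, t', ht'', ht'''⟩ := hb
      have := S.le_max' s hs
      have := S.le_max' s' hs'
      have := T.min'_le t ht
      have := T.min'_le t' ht''
      omega
    have h3 := Finset.card_union_add_card_inter (S.image (· + T.min' hTne)) (T.image (S.max' hSne + ·))
    rw [Finset.card_image_of_injective _ (add_left_injective _),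
      Finset.card_image_of_injective _ (add_right_injective _)] at h3
    have := Finset.card_le_card hsub
    omega
  show Module.finrank k (L D) + Module.finrank k (L E) ≤ Module.finrank k (L (D + E)) + 1
  omega

/-- Clifford's theorem. -/
theorem clifford [IsAlgClosed k] (h : IsFunctionField k K) {C D : Divisor k K}
    (hC : _root_.FunFld.IsCanonical k K C) (hD : 0 < ell D) (hCD : 0 < ell (C - D)) :
    2 * (ell D : ℤ) ≤ D.deg + 2 := by
  have h1 := ell_add_ell_le h hD hCD
  rw [add_sub_cancel] at h1
  have h2 := FunFld.riemann_roch' h hC D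
  have h3 := FunFld.ell_canonical h hC
  omega

/-- The dimension of `L(D)` is at most half the degree plus one, or given by Riemann's formula. -/
theorem ell_bound [IsAlgClosed k] (h : IsFunctionField k K) {D : Divisor k K} (hD : 0 < ell D) :
    2 * (ell D : ℤ) ≤ D.deg + 2 ∨ (ell D : ℤ) = D.deg + 1 - _root_.FunFld.genus k K := by
  obtain ⟨C, hC⟩ := FunFld.exists_isCanonical h
  rcases Nat.eq_zero_or_pos (ell (C - D)) with h0 | hpos
  · have := FunFld.riemann_roch' h hC D
    right; omega
  · exact Or.inl (clifford h hC hD hpos)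

end GrothLib.CurveRR.FF
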