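import Groth.Agent.Lib.CurveRR.Vanish
import Groth.Agent.Lib.InvExt.Transfer
import Groth.Agent.Lib.Euler.Slope

/-!
# Invertible modules on a regular proper curve are sheaves of divisors
-/

set_option linter.style.haveILetI false

universe u

open CategoryTheory CategoryTheory.Limits AlgebraicGeometry TopologicalSpace Opposite WithZero
open _root_.FunFld (Place Divisor)
open GrothLib.ProjCoh (ratFun val genericPoint_mem)
open GrothLib.InvExt (IsGen IsRatio toK mres fres)

namespace GrothLib.CurveRR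

variable (k : Type u) [Field k] {X : Scheme.{u}} [IsIntegral X] [RegCurve X]
  [X.Over (Spec (CommRingCat.of k))] [IsProper (X ↘ Spec (CommRingCat.of k))]

theorem place_eq_one_of_isUnitAt {z : CP X} {c : X.functionField} (h : InvExt.IsUnitAt z.1 c) :
    (place k z).1 c = 1 := by
  obtain ⟨V, hz, a, ha, rfl⟩ := h
  obtain ⟨b, hb⟩ := ha.exists_right_inv
  have h1 := place_germ_le_one k z hz a
  have h2 := place_germ_le_one k z hz b
  refine le_antisymm h1 ?_
  have h3 := congrArg (fun t => (place k z).1 (X.presheaf.germ V _ (genericPoint_mem hz) t)) hb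
  simp only [map_mul, map_one] at h3
  calc (1 : WithZero (Multiplicative ℤ)) = _ := h3.symm
    _ ≤ _ := mul_le_of_le_one_right' h2

section

variable {L : X.Modules} {V₀ : X.Opens} {e₀ : Γ(L, V₀)} (he₀ : IsGen L V₀ e₀) (hη : genericPoint X ∈ V₀)

open scoped Classical in
/-- The rational function of a section with respect to a fixed generator. -/
noncomputable def ratio {T : X.Opens} (s : Γ(L, T)) : X.functionField :=
  if hT : genericPoint X ∈ T then (InvExt.exists_isRatio (e := s) he₀ hT hη).choose else 0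

omit [RegCurve X] in
theorem isRatio_ratio {T : X.Opens} (hT : genericPoint X ∈ T) (s : Γ(L, T)) :
    IsRatio L s e₀ (ratio he₀ hη s) := by
  rw [ratio, dif_pos hT]
  exact (InvExt.exists_isRatio (e := s) he₀ hT hη).choose_spec

omit [RegCurve X] in
theorem ratio_eq {T : X.Opens} (hT : genericPoint X ∈ T) (s : Γ(L, T)) {r : X.functionField}
    (h : IsRatio L s e₀ r) : ratio he₀ hη s = r :=
  (isRatio_ratio he₀ hη hT s).unique he₀ h

omit [RegCurve X] in
theorem ratio_mk {T : X.Opens} (hT : genericPoint X ∈ T) {W : X.Opens} (h : W ≤ T) (h' : W ≤ V₀)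
    (hW : genericPoint X ∈ W) (s : Γ(L, T)) {a : Γ(X, W)} (ha : mres L h s = a • mres L h' e₀) :
    ratio he₀ hη s = toK (genericPoint X) hW a :=
  ratio_eq he₀ hη hT s ⟨W, h, h', genericPoint X, hW, a, ha, rfl⟩

omit [RegCurve X] in
theorem ratio_add {T : X.Opens} (hT : genericPoint X ∈ T) (s t : Γ(L, T)) :
    ratio he₀ hη (s + t) = ratio he₀ hη s + ratio he₀ hη t := by
  obtain ⟨a, ha⟩ := he₀.exists_smul_eq (inf_le_right : T ⊓ V₀ ≤ V₀) (mres L inf_le_left s)
  obtain ⟨b, hb⟩ := he₀.exists_smul_eq (inf_le_right : T ⊓ V₀ ≤ V₀) (mres L inf_le_left t)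
  haveI : Nonempty (T ⊓ V₀ : X.Opens) := ⟨⟨_, hT, hη⟩⟩
  rw [ratio_mk he₀ hη hT inf_le_left (inf_le_right : T ⊓ V₀ ≤ V₀) ⟨hT, hη⟩ s ha, ratio_mk he₀ hη hT inf_le_left (inf_le_right : T ⊓ V₀ ≤ V₀) ⟨hT, hη⟩ t hb]
  refine (ratio_mk he₀ hη hT inf_le_left inf_le_right ⟨hT, hη⟩ (s + t) (a := a + b) ?_).trans (map_add _ _ _)
  rw [add_smul, ← ha, ← hb]
  exact map_add (L.presheaf.map (homOfLE (inf_le_left : T ⊓ V₀ ≤ T)).op).hom s t

omit [RegCurve X] in
theorem ratio_smul {T : X.Opens} (hT : genericPoint X ∈ T) (r : Γ(X, T)) (s : Γ(L, T)) :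
    ratio he₀ hη (r • s) = X.presheaf.germ T _ hT r * ratio he₀ hη s := by
  obtain ⟨a, ha⟩ := he₀.exists_smul_eq (inf_le_right : T ⊓ V₀ ≤ V₀) (mres L inf_le_left s)
  haveI : Nonempty (T ⊓ V₀ : X.Opens) := ⟨⟨_, hT, hη⟩⟩
  rw [ratio_mk he₀ hη hT inf_le_left (inf_le_right : T ⊓ V₀ ≤ V₀) ⟨hT, hη⟩ s ha]
  refine (ratio_mk he₀ hη hT inf_le_left inf_le_right ⟨hT, hη⟩ (r • s) (a := fres X (inf_le_left : T ⊓ V₀ ≤ T) r * a) ?_).trans ?_
  · rw [InvExt.mres_smul, ha, smul_smul]
  · show X.presheaf.germ (T ⊓ V₀) _ _ (fres X inf_le_left r * a) = _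
    rw [map_mul, fres, TopCat.Presheaf.germ_res_apply]

omit [RegCurve X] in
theorem ratio_map {T T' : X.Opens} (h : T' ≤ T) (hT' : genericPoint X ∈ T') (s : Γ(L, T)) :
    ratio he₀ hη (mres L h s) = ratio he₀ hη s := by
  obtain ⟨a, ha⟩ := he₀.exists_smul_eq (inf_le_right : T' ⊓ V₀ ≤ V₀) (mres L inf_le_left (mres L h s))
  haveI : Nonempty (T' ⊓ V₀ : X.Opens) := ⟨⟨_, hT', hη⟩⟩
  rw [ratio_mk he₀ hη hT' inf_le_left (inf_le_right : T' ⊓ V₀ ≤ V₀) ⟨hT', hη⟩ _ ha]
  refine (ratio_mk he₀ hη (h hT') (inf_le_left.trans h) inf_le_right ⟨hT', hη⟩ s (a := a) ?_).symm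
  rw [← InvExt.mres_mres L h inf_le_left, ha]

end

/-- An invertible module is the sheaf of the divisor of the orders of its generators. -/
theorem exists_iso_oD' {L : X.Modules} (hL : PicF.IsInvertible L) {V₀ : X.Opens} {e₀ : Γ(L, V₀)}
    (he₀ : IsGen L V₀ e₀) (hη : genericPoint X ∈ V₀) :
    ∃ D : Divisor k X.functionField, Nonempty (L ≅ oD k D) ∧
      ∀ (z : CP X) (T : X.Opens) (t : Γ(L, T)), IsGen L T t → z.1 ∈ T →
        (place k z).1 (ratio he₀ hη t) = exp (D (place k z)) := by
  classical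
  choose V e hxV he using fun x : X => InvExt.exists_gen_nhd hL x
  have hηV : ∀ x, genericPoint X ∈ V x := fun x => genericPoint_mem (hxV x)
  let r : X → X.functionField := fun x => ratio he₀ hη (e x)
  have hr : ∀ x, IsRatio L (e x) e₀ (r x) := fun x => isRatio_ratio he₀ hη (hηV x) _
  have hr0 : ∀ x, r x ≠ 0 := fun x h0 => by
    obtain ⟨W, hW, a, ha, hac⟩ := (hr x).isUnitAt (he x) he₀ (hηV x) hη
    haveI : Nonempty W := ⟨⟨_, hW⟩⟩
    exact (ha.map (X.germToFunctionField W).hom).ne_zero (hac.trans h0)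
  -- independence of the generator
  have hindep : ∀ (x : X) (z : CP X), z.1 ∈ V x → (place k z).1 (r x) = (place k z).1 (r z.1) := by
    intro x z hz
    obtain ⟨s, hs⟩ := InvExt.exists_isRatio (e := e x) (he z.1) (hηV x) (hηV z.1)
    rw [(hr x).unique he₀ (hs.trans (hr z.1)), map_mul,
      place_eq_one_of_isUnitAt k (hs.isUnitAt (he x) (he z.1) hz (hxV z.1)), one_mul]
  -- the divisor
  have hfin : (Function.support fun P : Place k X.functionField =>
      -P.ord (r ((placeEquiv k).symm P).1)).Finite := by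
    haveI := Euler.isNoetherian_of_proper (X := X) k
    have h1 : {z : CP X | z.1 ∉ V₀}.Finite :=
      (CurvePoints.finite_of_isClosed RegCurve.dim.le V₀.isOpen.isClosed_compl
        (fun h => h hη)).preimage Subtype.val_injective.injOn
    refine (h1.image (place k)).subset fun P hP => ?_
    obtain ⟨z, rfl⟩ := (placeEquiv k (X := X)).surjective P
    refine ⟨z, fun hz => hP ?_, rfl⟩
    show -(placeEquiv k z).ord (r ((placeEquiv k).symm (placeEquiv k z)).1) = 0
    rw [Equiv.symm_apply_apply, neg_eq_zero]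
    have h2 := place_eq_one_of_isUnitAt k ((hr z.1).isUnitAt (he z.1) he₀ (hxV z.1) hz)
    exact FunFld.ord_eq_of_val_eq (place k z) (n := 0) (by rw [h2, exp_zero]) |>.trans (by simp)
  let D : Divisor k X.functionField := Finsupp.ofSupportFinite _ hfin
  have hD : ∀ z : CP X, (place k z).1 (r z.1) = exp (D (place k z)) := fun z => by
    rw [FunFld.val_eq (place k z) (hr0 z.1)]
    congr 1
    show _ = -(place k z).ord (r ((placeEquiv k).symm (place k z)).1)
    rw [show place k z = placeEquiv k z from rfl, Equiv.symm_apply_apply]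
  have hgen : ∀ x, ∀ z : CP X, z.1 ∈ V x → (place k z).1 (r x) = exp (D (place k z)) :=
    fun x z hz => (hindep x z hz).trans (hD z)
  have hany : ∀ (z : CP X) (T : X.Opens) (t : Γ(L, T)), IsGen L T t → z.1 ∈ T →
      (place k z).1 (ratio he₀ hη t) = exp (D (place k z)) := by
    intro z T t ht hz
    obtain ⟨s, hs⟩ := InvExt.exists_isRatio (e := t) (he z.1) (genericPoint_mem hz) (hηV z.1)
    rw [ratio_eq he₀ hη (genericPoint_mem hz) t (hs.trans (hr z.1)), map_mul,
      place_eq_one_of_isUnitAt k (hs.isUnitAt ht (he z.1) hz (hxV z.1)), one_mul, hD]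
  refine ⟨D, ?_, hany⟩
  have hbound : ∀ (T : X.Opens) (s : Γ(L, T)) (z : CP X), z.1 ∈ T →
      (place k z).1 (ratio he₀ hη s) ≤ exp (D (place k z)) := by
    intro T s z hz
    obtain ⟨a, ha⟩ := (he z.1).exists_smul_eq (inf_le_right : T ⊓ V z.1 ≤ V z.1) (mres L inf_le_left s)
    have hsz : IsRatio L s (e z.1) (toK z.1 (show z.1 ∈ T ⊓ V z.1 from ⟨hz, hxV z.1⟩) a) :=
      ⟨_, inf_le_left, inf_le_right, z.1, ⟨hz, hxV z.1⟩, a, ha, rfl⟩
    rw [ratio_eq he₀ hη (genericPoint_mem hz) s (hsz.trans (hr z.1)), map_mul]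
    exact (mul_le_mul' (place_germ_le_one k z (V := T ⊓ V z.1) ⟨hz, hxV z.1⟩ a) (hD z).le).trans_eq (one_mul _)
  let φ : L ⟶ oD k D :=
    ⟨PresheafOfModules.homMk
      { app := fun T => AddCommGrpCat.ofHom
          { toFun := fun s => mkSec k D T.unop (ratio he₀ hη s) (fun z hz => hbound T.unop s z hz)
            map_zero' := oval_ext fun hV => by
              rw [oval_mkSec]
              have h0 := ratio_add he₀ hη hV (T := T.unop) 0 0
              rw [add_zero] at h0
              exact (left_eq_add.1 h0).trans rfl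
            map_add' := fun s t => oval_ext fun hV => by
              show ratio he₀ hη (s + t) = ratio he₀ hη s + ratio he₀ hη t
              exact ratio_add he₀ hη hV s t }
        naturality := fun T T' i => AddCommGrpCat.ext fun s => oval_ext fun hV => by
          show oval k (mkSec k D T'.unop (ratio he₀ hη (mres L i.unop.le s)) _) hV = _
          rw [oval_mkSec]
          exact (ratio_map he₀ hη i.unop.le hV s).trans rfl }
      fun T a s => oval_ext fun hV => by
        show oval k (mkSec k D T.unop (ratio he₀ hη _) _) hV = oval k ((show Γ(X, T.unop) from a) • mkSec k D T.unop _ _) hV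
        rw [oval_smul, oval_mkSec, oval_mkSec]
        exact ratio_smul he₀ hη hV a s⟩
  have hφ : ∀ (T : X.Opens) (s : Γ(L, T)) (hV : genericPoint X ∈ T), oval k (φ.app T s) hV = ratio he₀ hη s :=
    fun T s hV => rfl
  have hbij : ∀ (x : X) (T : X.Opens), T ≤ V x → Function.Bijective (φ.app T) := by
    intro x T hT
    let e' := mkSec k D (V x) (r x) fun z hz => (hgen x z hz).le
    have he' : IsGen (oD k D) (V x) e' := isGen_mkSec k D (V x) (r x) (hr0 x) (hgen x)
    have hee : φ.app (V x) (e x) = e' := oval_ext fun hV => by rw [hφ, oval_mkSec]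
    have hcomp : (φ.app T) ∘ (fun c : Γ(X, T) => c • mres L hT (e x)) = fun c => c • mres (oD k D) hT e' := by
      funext c
      show φ.app T (c • mres L hT (e x)) = _
      rw [Scheme.Modules.Hom.app_smul, ← InvExt.mres_app, hee]
    have h2 := he' T hT
    rw [← hcomp] at h2
    exact (Function.Bijective.of_comp_iff _ (he x T hT)).1 h2
  haveI : Mono φ := (OX.mono_iff φ).2 fun x => (ModuleCat.mono_iff_injective _).2
    (Euler.stalkLin_bijective_of_app_bijective φ (hxV x) (hbij x)).1
  haveI : Epi φ := (OX.epi_iff φ).2 fun x => (ModuleCat.epi_iff_surjective _).2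
    (Euler.stalkLin_bijective_of_app_bijective φ (hxV x) (hbij x)).2
  haveI := isIso_of_mono_of_epi φ
  exact ⟨asIso φ⟩

/-- Every invertible module is the sheaf of a divisor. -/
theorem exists_iso_oD {L : X.Modules} (hL : PicF.IsInvertible L) :
    ∃ D : Divisor k X.functionField, Nonempty (L ≅ oD k D) := by
  obtain ⟨V₀, e₀, hη, he₀⟩ := InvExt.exists_gen_nhd hL (genericPoint X)
  obtain ⟨D, hD, -⟩ := exists_iso_oD' k hL he₀ hη
  exact ⟨D, hD⟩

/-- With one-dimensional global functions the function field has exact constants `k`. -/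
theorem isFunctionField (h0 : Module.finrank k (Coh.HH X (Coh.structureModule X) 0) = 1) :
    _root_.FunFld.IsFunctionField k X.functionField := by
  have hFG := isFG k (X := X)
  refine ⟨hFG, fun y hy => ?_⟩
  have hy0 : y ∈ _root_.FunFld.L (0 : Divisor k X.functionField) := fun P => by
    rcases eq_or_ne y 0 with rfl | hne
    · rw [map_zero]; exact zero_le
    · exact (FunFld.val_eq_one_of_isAlgebraic P hy hne).le.trans_eq (by simp)
  have h1 : _root_.FunFld.ell (0 : Divisor k X.functionField) = 1 := by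
    rw [← finrank_H0_oD, ← (Euler.hhEquiv (A := k) (nonempty_iso_oD_zero k).some 0).finrank_eq, h0]
  have hone : (1 : X.functionField) ∈ _root_.FunFld.L (0 : Divisor k X.functionField) := fun P => by simp
  obtain ⟨c, hc⟩ := (finrank_eq_one_iff_of_nonzero' (⟨1, hone⟩ : _root_.FunFld.L (0 : Divisor k X.functionField))
    (fun h => one_ne_zero (congrArg Subtype.val h))).1 h1 ⟨y, hy0⟩
  exact ⟨c, (Algebra.algebraMap_eq_smul_one c).trans (congrArg Subtype.val hc)⟩

/-- The genus of the curve is the genus of its function field. -/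
theorem genus_eq (h0 : Module.finrank k (Coh.HH X (Coh.structureModule X) 0) = 1) :
    Curv2.genus k X = _root_.FunFld.genus k X.functionField := by
  have h1 := euler_structure_eq k (isFunctionField k h0)
  rw [Euler.euler_structure k RegCurve.dim.le, h0] at h1
  omega

/-- The numerical invariants of an invertible module. -/
theorem exists_divisor (h0 : Module.finrank k (Coh.HH X (Coh.structureModule X) 0) = 1)
    {C : Divisor k X.functionField} (hC : _root_.FunFld.IsCanonical k X.functionField C)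
    {L : X.Modules} (hL : PicF.IsInvertible L) :
    ∃ D : Divisor k X.functionField, Nonempty (L ≅ oD k D) ∧ Curv2.deg k X L 1 = D.deg ∧
      Module.finrank k (Coh.HH X L 0) = _root_.FunFld.ell D ∧
      Module.finrank k (Coh.HH X L 1) = _root_.FunFld.ell (C - D) := by
  obtain ⟨D, ⟨e⟩⟩ := exists_iso_oD k hL
  refine ⟨D, ⟨e⟩, ?_, ?_, ?_⟩
  · rw [Euler.deg_of_iso k e 1, deg_oD]
  · rw [(Euler.hhEquiv (A := k) e 0).finrank_eq, finrank_H0_oD]
  · rw [(Euler.hhEquiv (A := k) e 1).finrank_eq, finrank_H1_oD k (isFunctionField k h0) hC]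

end GrothLib.CurveRR
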