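import Groth.Agent.Lib.CurveRR.DivSheaf
import Groth.Agent.Lib.Euler.TensorSupport
import Groth.Agent.Lib.QCoh.SupportExact
import Groth.Agent.Lib.FunFld.Degree

/-!
# The degree of the sheaf of a divisor
-/

set_option linter.style.haveILetI false

universe u

open CategoryTheory CategoryTheory.Limits AlgebraicGeometry TopologicalSpace Opposite WithZero IsLocalRing
open _root_.FunFld (Place Divisor)
open GrothLib.ProjCoh (ratFun val genericPoint_mem)
open GrothLib.QCoh (stalkLin stalkLin_germ)

namespace GrothLib.CurveRR

variable {k : Type u} [Field k] {X : Scheme.{u}} [IsIntegral X] [RegCurve X]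
  [X.Over (Spec (CommRingCat.of k))] [IsProper (X ↘ Spec (CommRingCat.of k))]

theorem oval_smul' {D : Divisor k X.functionField} {V : X.Opens} {x : X} (hx : x ∈ V) (r : Γ(X, V)) (s : Γ(oD k D, V)) :
    oval k (r • s) (genericPoint_mem hx) =
      algebraMap (X.presheaf.stalk x) X.functionField (X.presheaf.germ V x hx r) * oval k s (genericPoint_mem hx) := by
  rw [oval_smul, germ_generic hx]

omit [RegCurve X] [IsProper (X ↘ Spec (CommRingCat.of k))] in
theorem algebraMap_stalk_injective (x : X) :
    Function.Injective (algebraMap (X.presheaf.stalk x) X.functionField) :=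
  IsFractionRing.injective _ _

/-- A rational function with a bound at `x` is a section near `x`. -/
theorem exists_local_sec (D : Divisor k X.functionField) (x : CP X) (f : X.functionField)
    (hf : (place k x).1 f ≤ exp (D (place k x))) :
    ∃ V : X.Opens, x.1 ∈ V ∧ ∀ z : CP X, z.1 ∈ V → (place k z).1 f ≤ exp (D (place k z)) := by
  obtain ⟨V, hV⟩ := exists_open_avoiding ((finite_bad k D f).sep fun z => z ≠ x)
  refine ⟨V, (hV x.1).2 fun z hz h => hz.2 (Subtype.ext h), fun z hz => ?_⟩
  rcases eq_or_ne z x with rfl | hzx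
  · exact hf
  · have h := (hV z.1).1 hz z
    have hb : ¬ (D (place k z) ≠ 0 ∨ (place k z).ord f ≠ 0) := fun hb => h ⟨hb, hzx⟩ rfl
    obtain ⟨h1, h2⟩ := not_or.1 hb
    rcases eq_or_ne f 0 with rfl | hf0
    · rw [map_zero]; exact zero_le
    · rw [FunFld.val_eq (place k z) hf0, not_not.1 h1, not_not.1 h2, neg_zero]

section step

variable (D : Divisor k X.functionField) (x : CP X)

/-- `D + x`. -/
noncomputable abbrev up : Divisor k X.functionField := D + Finsupp.single (place k x) 1

theorem le_up : D ≤ up D x := le_add_of_nonneg_right (Finsupp.single_nonneg.2 zero_le_one)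

theorem up_self : up D x (place k x) = D (place k x) + 1 := by simp [up]

theorem up_ne {z : CP X} (h : z ≠ x) : up D x (place k z) = D (place k z) := by
  have : place k x ≠ place k z := fun e => h (place_injective e).symm
  simp [up, Finsupp.single_eq_of_ne' this]

/-- The quotient of `O(D + x)` by `O(D)`. -/
noncomputable abbrev sky : X.Modules := cokernel (incl (le_up D x))

theorem support_sky : CohB1.support (sky D x) ⊆ {x.1} := by
  intro z hz
  by_contra hne
  refine QCoh.notMem_support_cokernel_of_surjective _ ?_ hz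
  obtain ⟨V, hV⟩ := exists_open_avoiding (Set.finite_singleton x)
  refine (Euler.stalkLin_bijective_of_app_bijective (incl (le_up D x)) (O := V)
    ((hV z).2 fun w hw h => hne (by rw [Set.mem_singleton_iff] at hw ⊢; rw [← h, hw])) fun T hT => ⟨?_, ?_⟩).2
  · intro s t hst
    exact oval_ext fun hη => by rw [← oval_incl (le_up D x) s hη, hst, oval_incl]
  · intro s
    refine ⟨(oDData k D).lift ((oDData k (up D x)).ι.app T s) fun w hw => ?_, oval_ext fun hη => rfl⟩
    have hwx : w ≠ x := fun e => (hV w.1).1 (hT hw) x rfl (congrArg Subtype.val e.symm)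
    rw [← up_ne D x hwx]
    exact oval_bound s w hw

theorem sky_finite : (CohB1.support (sky D x)).Finite ∧
    ∀ z ∈ CohB1.support (sky D x), IsClosed ({z} : Set X) :=
  ⟨(Set.finite_singleton _).subset (support_sky D x), fun z hz => by
    rw [support_sky D x hz]; exact CurvePoints.isClosed_singleton RegCurve.dim.le x.2⟩

theorem isCoh_sky : Coh.IsCoh (sky D x) :=
  QCoh.isCoh_cokernel _ (isCoh_oD k _) (isCoh_oD k _)

/-- Global sections of the quotient are its stalk at `x`. -/
theorem bijective_germ_sky :
    Function.Bijective fun s : Γ(sky D x, ⊤) => (sky D x).presheaf.germ ⊤ x.1 trivial s := by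
  have h := Euler.bijective_germs (sky D x) (sky_finite D x).1 (sky_finite D x).2
  constructor
  · intro s t hst
    refine h.1 (funext fun z => ?_)
    obtain ⟨z, hz⟩ := z
    obtain rfl : z = x.1 := support_sky D x hz
    exact hst
  · intro v
    by_cases hx : x.1 ∈ CohB1.support (sky D x)
    · classical
      obtain ⟨s, hs⟩ := h.2 fun z => if e : x.1 = z.1 then e ▸ v else 0
      refine ⟨s, (congrFun hs ⟨x.1, hx⟩).trans ?_⟩
      simp
    · exact ⟨0, @Subsingleton.elim _ (QCoh.stalk_subsingleton_of_notMem hx) _ _⟩

/-- The degree of a point is the number of sections of the quotient. -/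
theorem finrank_H0_sky : Module.finrank k (Coh.HH X (sky D x) 0) = (place k x).deg := by
  classical
  set P := place k x
  set π := cokernel.π (incl (le_up D x))
  obtain ⟨V, g, hxV, hg0, hg⟩ := exists_gen k (up D x) x.1
  let e : Γ(oD k (up D x), V) := mkSec k (up D x) V g fun z hz => (hg z hz).le
  have he : InvExt.IsGen (oD k (up D x)) V e := isGen_mkSec k (up D x) V g hg0 hg
  let q : (sky D x).presheaf.stalk x.1 := stalkLin π x.1 ((oD k (up D x)).presheaf.germ V x.1 hxV e)
  -- the germs of sections of `O(D + x)` at `x` are multiples of the generator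
  have hgen : ∀ v : (oD k (up D x)).presheaf.stalk x.1, ∃ r : X.presheaf.stalk x.1,
      v = r • (oD k (up D x)).presheaf.germ V x.1 hxV e := by
    intro v
    obtain ⟨U, hU, s, rfl⟩ := TopCat.Presheaf.exists_germ_eq _ v
    obtain ⟨a, ha⟩ := he.exists_smul_eq (inf_le_right : U ⊓ V ≤ V) (InvExt.mres _ inf_le_left s)
    refine ⟨X.presheaf.germ (U ⊓ V) x.1 ⟨hU, hxV⟩ a, ?_⟩
    have := congrArg ((oD k (up D x)).presheaf.germ (U ⊓ V) x.1 ⟨hU, hxV⟩) ha
    rw [WeakAss.germ_smul, InvExt.mres, TopCat.Presheaf.germ_res_apply, InvExt.mres,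
      TopCat.Presheaf.germ_res_apply] at this
    exact this
  -- the annihilator of the generator
  have hann : ∀ r : X.presheaf.stalk x.1, r • q = 0 ↔ P.1 (algebraMap _ X.functionField r) < 1 := by
    intro r
    constructor
    · intro h0
      have hex := (OX.exact_iff (ShortComplex.mk (incl (le_up D x)) π (cokernel.condition _))).1
        (ShortComplex.exact_of_g_is_cokernel _ (cokernelIsCokernel _)) x.1
      rw [ShortComplex.moduleCat_exact_iff] at hex
      obtain ⟨a, ha⟩ : ∃ a : (oD k D).presheaf.stalk x.1, stalkLin (incl (le_up D x)) x.1 a =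
          r • (oD k (up D x)).presheaf.germ V x.1 hxV e :=
        hex (r • (oD k (up D x)).presheaf.germ V x.1 hxV e) ((map_smul (stalkLin π x.1) r _).trans h0)
      obtain ⟨U, hU, s, rfl⟩ := TopCat.Presheaf.exists_germ_eq (oD k D).presheaf a
      obtain ⟨U', hU', r', rfl⟩ := TopCat.Presheaf.exists_germ_eq _ r
      have h1 : (oD k (up D x)).presheaf.germ U x.1 hU ((incl (le_up D x)).app U s) =
          (oD k (up D x)).presheaf.germ (U' ⊓ V) x.1 ⟨hU', hxV⟩
            (InvExt.fres X (inf_le_left : U' ⊓ V ≤ U') r' • InvExt.mres (oD k (up D x)) (inf_le_right : U' ⊓ V ≤ V) e) := by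
        rw [← stalkLin_germ (incl (le_up D x)) hU s, WeakAss.germ_smul, InvExt.fres,
          TopCat.Presheaf.germ_res_apply, InvExt.mres, TopCat.Presheaf.germ_res_apply]
        exact ha
      obtain ⟨W, hxW, i₁, i₂, hW⟩ := TopCat.Presheaf.germ_eq (oD k (up D x)).presheaf x.1 (U := U) (V := U' ⊓ V) hU ⟨hU', hxV⟩ _ _ h1
      have h2 := congrArg (fun t => oval k t (genericPoint_mem hxW)) hW
      dsimp only at h2
      rw [oval_map, oval_map, oval_incl, oval_smul' (⟨hU', hxV⟩ : x.1 ∈ U' ⊓ V)] at h2
      rw [InvExt.fres, TopCat.Presheaf.germ_res_apply] at h2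
      rw [InvExt.mres, oval_map, oval_mkSec] at h2
      have h3 := oval_bound s x hU
      rw [h2, map_mul, hg x hxV, up_self, exp_add] at h3
      have h4 : P.1 (algebraMap _ X.functionField (X.presheaf.germ U' x.1 hU' r')) * exp 1 ≤ 1 := by
        refine le_of_mul_le_mul_right (a := exp (D (place k x))) ?_ (by simp)
        rw [one_mul, mul_assoc, mul_comm (exp 1)]
        exact h3
      by_contra h5
      exact absurd h4 (not_le.2 (lt_of_lt_of_le (by rw [← exp_zero, exp_lt_exp]; norm_num)
        (le_mul_of_one_le_left' (not_lt.1 h5))))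
    · intro hr
      obtain ⟨U', hU', r', rfl⟩ := TopCat.Presheaf.exists_germ_eq _ r
      set c := algebraMap (X.presheaf.stalk x.1) X.functionField (X.presheaf.germ U' x.1 hU' r')
      have hc : P.1 (c * g) ≤ exp (D P) := by
        rw [map_mul, hg x hxV, up_self]
        refine (mul_le_mul' (show P.1 c ≤ exp (-1) from ?_) le_rfl).trans_eq ?_
        · rw [← zero_sub (1 : ℤ), FunFld.le_exp_sub_one_iff, exp_zero]; exact hr
        · rw [← exp_add]; ring_nf; rfl
      obtain ⟨U, hxU, hUb⟩ := exists_local_sec D x (c * g) hc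
      let W : X.Opens := U ⊓ (U' ⊓ V)
      have hxW : x.1 ∈ W := ⟨hxU, hU', hxV⟩
      let s : Γ(oD k D, W) := mkSec k D W (c * g) fun z hz => hUb z hz.1
      have h1 : (incl (le_up D x)).app W s =
          InvExt.fres X (inf_le_right.trans inf_le_left : W ≤ U') r' •
            InvExt.mres _ (inf_le_right.trans inf_le_right : W ≤ V) e := by
        refine oval_ext fun hη => ?_
        rw [oval_incl, oval_mkSec, oval_smul' hxW, InvExt.fres, TopCat.Presheaf.germ_res_apply,
          InvExt.mres, oval_map, oval_mkSec]
      have h2 := congrArg ((oD k (up D x)).presheaf.germ W x.1 hxW) h1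
      rw [WeakAss.germ_smul, InvExt.fres, TopCat.Presheaf.germ_res_apply, InvExt.mres,
        TopCat.Presheaf.germ_res_apply, ← stalkLin_germ (incl (le_up D x)) hxW s] at h2
      show X.presheaf.germ U' x.1 hU' r' • stalkLin π x.1 _ = 0
      rw [← map_smul, ← h2, ← QCoh.stalkLin_comp, cokernel.condition]
      exact LinearMap.congr_fun (congrArg ModuleCat.Hom.hom
        ((OX.stalk x.1).map_zero (oD k D) (sky D x))) _
  -- the map from the local ring
  let gQ : Γ(sky D x, ⊤) ≃+ (sky D x).presheaf.stalk x.1 :=
    AddEquiv.ofBijective (AddMonoidHom.mk' _ fun s t => map_add ((sky D x).presheaf.germ ⊤ x.1 trivial).hom s t)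
      (bijective_germ_sky D x)
  have hext : ∀ u v : Coh.HH X (sky D x) 0, gQ (ProjCoh.H0top _ u) = gQ (ProjCoh.H0top _ v) → u = v :=
    fun u v h => (ProjCoh.H0top _).injective (gQ.injective h)
  have hlift : ∀ a : P.O, ∃ r : X.presheaf.stalk x.1, algebraMap _ X.functionField r = (a : X.functionField) :=
    fun a => (mem_place_O k).1 a.2
  choose lft hlft using hlift
  let θ : P.O →ₗ[k] Coh.HH X (sky D x) 0 :=
    { toFun := fun a => (ProjCoh.H0top _).symm (gQ.symm (lft a • q))
      map_add' := fun a b => hext _ _ (by
        simp only [map_add, AddEquiv.apply_symm_apply]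
        rw [show lft (a + b) = lft a + lft b from algebraMap_stalk_injective x.1 (by
          rw [map_add, hlft, hlft, hlft]; rfl), add_smul])
      map_smul' := fun c a => hext _ _ (by
        simp only [RingHom.id_apply, AddEquiv.apply_symm_apply]
        show _ = (sky D x).presheaf.germ ⊤ x.1 trivial (ProjCoh.H0top _ (c • _))
        rw [Euler.germ_H0top_smul, AddEquiv.apply_symm_apply]
        show _ = _ • gQ (gQ.symm _)
        rw [AddEquiv.apply_symm_apply, smul_smul]
        congr 1
        refine algebraMap_stalk_injective x.1 ?_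
        rw [map_mul, hlft, hlft]
        show _ = algebraMap _ X.functionField (cst k x.1 c) * _
        rw [algebraMap_cst, ← Algebra.smul_def]
        rfl) }
  have hsurj : Function.Surjective θ := by
    intro h
    obtain ⟨v, hv⟩ := QCoh.stalkLin_surjective π x.1 (gQ (ProjCoh.H0top _ h))
    obtain ⟨r, rfl⟩ := hgen v
    refine ⟨⟨algebraMap _ X.functionField r, (mem_place_O k).2 ⟨r, rfl⟩⟩, hext _ _ ?_⟩
    show gQ (ProjCoh.H0top _ ((ProjCoh.H0top _).symm (gQ.symm (lft _ • q)))) = _
    rw [AddEquiv.apply_symm_apply, AddEquiv.apply_symm_apply, ← hv]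
    rw [show lft ⟨algebraMap _ X.functionField r, (mem_place_O k).2 ⟨r, rfl⟩⟩ = r from
      algebraMap_stalk_injective x.1 (hlft _)]
    exact (map_smul (stalkLin π x.1) r _).symm
  have hker : LinearMap.ker θ = LinearMap.ker (FunFld.res P).toLinearMap := by
    ext a
    rw [LinearMap.mem_ker, LinearMap.mem_ker]
    show (ProjCoh.H0top _).symm (gQ.symm (lft a • q)) = 0 ↔ FunFld.res P a = 0
    rw [EmbeddingLike.map_eq_zero_iff, EmbeddingLike.map_eq_zero_iff, hann, hlft, FunFld.res_eq_zero_iff]
  exact (((LinearMap.quotKerEquivOfSurjective θ hsurj).symm.trans (Submodule.quotEquivOfEq _ _ hker)).trans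
    (LinearMap.quotKerEquivOfSurjective (FunFld.res P).toLinearMap (FunFld.res_surjective P))).finrank_eq

theorem euler_up : Curv2.euler k X (oD k (up D x)) = Curv2.euler k X (oD k D) + (place k x).deg := by
  let S := ShortComplex.mk (incl (le_up D x)) (cokernel.π _) (cokernel.condition _)
  have hS : S.ShortExact := { exact := ShortComplex.exact_of_g_is_cokernel _ (cokernelIsCokernel _) }
  rw [Euler.euler_additive k hS (isCoh_oD k _) (isCoh_oD k _) (isCoh_sky D x),
    Euler.euler_eq_of_finite_support k _ (sky_finite D x).1 (sky_finite D x).2, finrank_H0_sky]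

end step

/-- The Euler characteristic of `O(D)`. -/
theorem euler_oD (D : Divisor k X.functionField) :
    Curv2.euler k X (oD k D) = Curv2.euler k X (Coh.structureModule X) + D.deg := by
  classical
  have h0 : Curv2.euler k X (oD k (0 : Divisor k X.functionField)) = Curv2.euler k X (Coh.structureModule X) :=
    (Euler.euler_of_iso k (nonempty_iso_oD_zero k).some).symm
  have hdeg : ∀ (E : Divisor k X.functionField) (P : Place k X.functionField),
      (E + Finsupp.single P 1).deg = E.deg + P.deg := by
    intro E P
    rw [FunFld.deg_eq_degHom, FunFld.deg_eq_degHom, Finsupp.sum_add_index (fun _ _ => zero_mul _)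
      (fun _ _ _ _ => add_mul _ _ _), Finsupp.sum_single_index (zero_mul _), one_mul]
  have hstep : ∀ (E : Divisor k X.functionField) (P : Place k X.functionField) (n : ℤ),
      Curv2.euler k X (oD k (E + Finsupp.single P n)) - (E + Finsupp.single P n).deg =
        Curv2.euler k X (oD k E) - E.deg := by
    intro E P n
    obtain ⟨z, rfl⟩ := place_surjective (k := k) (X := X) P
    induction n using Int.induction_on with
    | zero => simp
    | succ m ih =>
      rw [Finsupp.single_add, ← add_assoc, hdeg, ← ih]
      have := euler_up (E + Finsupp.single (place k z) (m : ℤ)) z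
      rw [up] at this
      rw [this]; ring
    | pred m ih =>
      rw [← ih]
      have e : E + Finsupp.single (place k z) (-(m : ℤ)) =
          (E + Finsupp.single (place k z) (-(m : ℤ) - 1)) + Finsupp.single (place k z) 1 := by
        rw [add_assoc, ← Finsupp.single_add]; congr 2; ring
      have := euler_up (E + Finsupp.single (place k z) (-(m : ℤ) - 1)) z
      rw [up] at this
      rw [e, hdeg, this]; ring
  have : Curv2.euler k X (oD k D) - D.deg = Curv2.euler k X (oD k (0 : Divisor k X.functionField)) - (0 : Divisor k X.functionField).deg := by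
    induction D using Finsupp.induction with
    | zero => rfl
    | single_add P n E _ _ ih => rw [add_comm, hstep, ih]
  have hd0 : (0 : Divisor k X.functionField).deg = 0 := by simp [FunFld.deg_eq_degHom]
  rw [hd0, h0] at this
  linarith

/-- The degree of `O(D)`. -/
theorem deg_oD (D : Divisor k X.functionField) : Curv2.deg k X (oD k D) 1 = D.deg := by
  rw [Curv2.deg, euler_oD]; push_cast; ring

end GrothLib.CurveRR
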