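import Groth.Agent.Lib.CurveRR.Setup
import Groth.Agent.Lib.FunFld.Linear
import Groth.Agent.Lib.FunFld.Conductor

/-!
# Divisors of small degree in general position
-/

set_option linter.style.haveILetI false

open WithZero
open _root_.FunFld (Place Divisor L ell IsFunctionField)
open GrothLib.FunFld (IsFG val)

namespace GrothLib.CurveRR.FF

variable {k K : Type*} [Field k] [Field K] [Algebra k K] [IsAlgClosed k]

theorem exists_place_notMem (h : IsFG k K) (S : Finset (Place k K)) : ∃ P : Place k K, P ∉ S := by
  classical
  by_contra hall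
  push Not at hall
  obtain ⟨x, hx, -⟩ := id h
  have := GrothLib.FunFld.infinite_of_isAlgClosed k
  have hzero : ∀ c : k, ∃ P : Place k K, 0 < P.ord (x - algebraMap k K c) := by
    intro c
    have ht : Transcendental k (x - algebraMap k K c) := fun ha => hx (by
      simpa using ha.add (isAlgebraic_algebraMap (R := k) (A := K) c))
    obtain ⟨P, hP⟩ := h.exists_zero ht
    exact ⟨P, hP⟩
  choose P hP using hzero
  obtain ⟨a, b, hab, e⟩ := Finite.exists_ne_map_eq_of_infinite fun c : k => (⟨P c, hall _⟩ : S)
  have e' : P a = P b := congrArg Subtype.val e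
  have hne : ∀ c : k, x - algebraMap k K c ≠ 0 := fun c h0 => hx (by
    rw [sub_eq_zero.1 h0]; exact isAlgebraic_algebraMap (R := k) (A := K) c)
  have hv : ∀ c, P c = P a → val (P a) (x - algebraMap k K c) < 1 := fun c hc =>
    (FunFld.val_lt_one_iff (P a) (hne c)).2 (hc ▸ hP c)
  have h1 : val (P a) (algebraMap k K (b - a)) < 1 := by
    rw [map_sub, show algebraMap k K b - algebraMap k K a =
      (x - algebraMap k K a) - (x - algebraMap k K b) by ring]
    exact Valuation.map_sub_lt _ (hv a rfl) (hv b e'.symm)
  exact absurd (FunFld.val_const (P a) (sub_ne_zero.2 (Ne.symm hab))) h1.ne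

/-- Effective divisors of degree at most the genus with a one-dimensional space of functions. -/
theorem exists_effective_ell_one (h : IsFunctionField k K) :
    ∀ r : ℕ, r ≤ _root_.FunFld.genus k K →
      ∃ E : Divisor k K, 0 ≤ E ∧ E.deg = r ∧ ell E = 1 := by
  classical
  have hfg : IsFG k K := h.1
  obtain ⟨C, hC⟩ := GrothLib.FunFld.exists_isCanonical h
  intro r
  induction r with
  | zero => exact fun _ => ⟨0, le_rfl, by simp [GrothLib.FunFld.deg_eq_degHom], GrothLib.FunFld.ell_zero h⟩
  | succ r ih =>
    intro hr
    obtain ⟨E, hE, hdeg, hell⟩ := ih (by omega)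
    have hrr := GrothLib.FunFld.riemann_roch' h hC E
    obtain ⟨x, hx0, hxL, hx⟩ := hfg.exists_of_ell_pos (D := C - E) (by omega)
    obtain ⟨P, hP⟩ := exists_place_notMem hfg (C - E + _root_.FunFld.div k x).support
    rw [Finsupp.notMem_support_iff, Finsupp.add_apply, hfg.div_apply] at hP
    refine ⟨E + Finsupp.single P 1, add_nonneg hE (Finsupp.single_nonneg.2 zero_le_one), ?_, ?_⟩
    · rw [GrothLib.FunFld.deg_add, GrothLib.FunFld.deg_single, hfg.deg_eq_one P, hdeg]; push_cast; ring
    · have hle : C - (E + Finsupp.single P 1) ≤ C - E := sub_le_sub_left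
        (le_add_of_nonneg_right (Finsupp.single_nonneg.2 zero_le_one)) C
      have h1 := hfg.ell_sub_ell_le hle
      have h2 : ell (C - (E + Finsupp.single P 1)) < ell (C - E) := by
        have := hfg.finite_L (C - E)
        refine Submodule.finrank_lt_finrank_of_lt
          (lt_of_le_of_ne (GrothLib.FunFld.L_mono hle) fun heq => ?_)
        have hx' : x ∈ L (C - (E + Finsupp.single P 1)) := heq ▸ hxL
        have h3 := (GrothLib.FunFld.mem_L_iff_ord hx0).1 hx' P
        simp only [Finsupp.sub_apply, Finsupp.add_apply, Finsupp.single_eq_same] at h3 hP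
        omega
      have h4 := GrothLib.FunFld.riemann_roch' h hC (E + Finsupp.single P 1)
      have hd1 : (C - (E + Finsupp.single P 1)).deg = (C - E).deg - 1 := by
        rw [show C - E = (C - (E + Finsupp.single P 1)) + Finsupp.single P 1 by abel,
          GrothLib.FunFld.deg_add, GrothLib.FunFld.deg_single, hfg.deg_eq_one P]; push_cast; ring
      have hd2 : (E + Finsupp.single P 1).deg = E.deg + 1 := by
        rw [GrothLib.FunFld.deg_add, GrothLib.FunFld.deg_single, hfg.deg_eq_one P]; push_cast; ring
      omega

/-- A divisor of degree `g - 1` with neither functions nor speciality. -/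
theorem exists_deg_genus_sub_one (h : IsFunctionField k K) :
    ∃ D : Divisor k K, D.deg = (_root_.FunFld.genus k K : ℤ) - 1 ∧ ell D = 0 := by
  classical
  have hfg : IsFG k K := h.1
  obtain ⟨E, hE, hdeg, hell⟩ := exists_effective_ell_one h _ le_rfl
  obtain ⟨P, hP⟩ := exists_place_notMem hfg E.support
  rw [Finsupp.notMem_support_iff] at hP
  refine ⟨E - Finsupp.single P 1, ?_, ?_⟩
  · have h1 : (E - Finsupp.single P 1 + Finsupp.single P 1).deg = E.deg := by rw [sub_add_cancel]
    rw [GrothLib.FunFld.deg_add, GrothLib.FunFld.deg_single, hfg.deg_eq_one P] at h1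
    push_cast at h1
    omega
  · have hone : (1 : K) ∈ L E := fun Q => by
      rw [map_one, ← exp_zero, exp_le_exp]; exact hE Q
    have hle : E - Finsupp.single P 1 ≤ E := sub_le_self _ (Finsupp.single_nonneg.2 zero_le_one)
    have := hfg.finite_L E
    have h1 : ell (E - Finsupp.single P 1) < ell E := by
      refine Submodule.finrank_lt_finrank_of_lt (lt_of_le_of_ne (GrothLib.FunFld.L_mono hle) fun heq => ?_)
      have h2 : (1 : K) ∈ L (E - Finsupp.single P 1) := heq ▸ hone
      have h3 := h2 P
      rw [map_one, ← exp_zero, exp_le_exp, Finsupp.sub_apply, Finsupp.single_eq_same, hP] at h3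
      omega
    omega

end GrothLib.CurveRR.FF
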