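import Groth.Agent.Lib.CurveRR.Main
import Groth.Agent.Lib.FinCov.Bilinear
import Groth.Agent.Lib.Ample.Functorial
import Groth.Agent.Lib.IdealModSec.Basic
import Groth.Agent.Lib.OX.LocFreeTensor
import Mathlib.RingTheory.FiniteType

/-!
# Tensor products of sheaves of divisors; ideals of points
-/

set_option linter.style.haveILetI false

universe u

open CategoryTheory CategoryTheory.Limits AlgebraicGeometry TopologicalSpace Opposite WithZero
open _root_.FunFld (Place Divisor)
open GrothLib.ProjCoh (ratFun val genericPoint_mem)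
open GrothLib.QCoh (stalkLin stalkLin_germ)

namespace GrothLib.CurveRR

variable (k : Type u) [Field k] {X : Scheme.{u}} [IsIntegral X] [RegCurve X]
  [X.Over (Spec (CommRingCat.of k))] [IsProper (X ↘ Spec (CommRingCat.of k))]

/-- The product of sections of `O(D)` and `O(E)`. -/
noncomputable def mulSec (D E : Divisor k X.functionField) {U : X.Opens} (s : Γ(oD k D, U)) (t : Γ(oD k E, U)) :
    Γ(oD k (D + E), U) :=
  (oDData k (D + E)).lift (fun hV => oval k s hV.down * oval k t hV.down) fun x hx => by
    show (place k x).1 (oval k s _ * oval k t _) ≤ _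
    rw [map_mul, Finsupp.add_apply, exp_add]
    exact mul_le_mul' (oval_bound s x hx) (oval_bound t x hx)

theorem oval_mulSec {D E : Divisor k X.functionField} {U : X.Opens} (s : Γ(oD k D, U)) (t : Γ(oD k E, U))
    (hV : genericPoint X ∈ U) : oval k (mulSec k D E s t) hV = oval k s hV * oval k t hV := rfl

/-- The multiplication pairing. -/
noncomputable def mulPairing (D E : Divisor k X.functionField) : FinCov.Pairing (oD k D) (oD k E) (oD k (D + E)) where
  f U s t := mulSec k D E s t
  add_left U s s' t := oval_ext fun hV => by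
    rw [oval_mulSec, oval_add, oval_add, oval_mulSec, oval_mulSec, add_mul]
  smul_left U r s t := oval_ext fun hV => by
    rw [oval_mulSec, oval_smul, oval_smul, oval_mulSec, mul_assoc]
  add_right U s t t' := oval_ext fun hV => by
    rw [oval_mulSec, oval_add, oval_add, oval_mulSec, oval_mulSec, mul_add]
  smul_right U r s t := oval_ext fun hV => by
    rw [oval_mulSec, oval_smul, oval_smul, oval_mulSec, mul_left_comm]
  map i s t := rfl

/-- The multiplication map on the tensor product. -/
noncomputable def mulHom (D E : Divisor k X.functionField) :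
    CohB1.tensorMod (oD k D) (oD k E) ⟶ oD k (D + E) :=
  (mulPairing k D E).hom

instance isIso_mulHom (D E : Divisor k X.functionField) : IsIso (mulHom k D E) := by
  have hsurj : ∀ x : X, Function.Surjective (stalkLin (mulHom k D E) x) := by
    intro x v
    obtain ⟨U, hU, m, rfl⟩ := TopCat.Presheaf.exists_germ_eq (oD k (D + E)).presheaf v
    obtain ⟨V₁, g₁, hx₁, hg₁0, hg₁⟩ := exists_gen k D x
    obtain ⟨V₂, g₂, hx₂, hg₂0, hg₂⟩ := exists_gen k E x
    let W : X.Opens := U ⊓ (V₁ ⊓ V₂)
    have hxW : x ∈ W := ⟨hU, hx₁, hx₂⟩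
    have hW : ∀ z : CP X, z.1 ∈ W → (place k z).1 (g₁ * g₂) = exp ((D + E) (place k z)) := fun z hz => by
      rw [map_mul, hg₁ z hz.2.1, hg₂ z hz.2.2, Finsupp.add_apply, exp_add]
    obtain ⟨a, ha⟩ := (isGen_mkSec k (D + E) W (g₁ * g₂) (mul_ne_zero hg₁0 hg₂0) hW).exists_smul_eq
      (le_refl W) (InvExt.mres _ (inf_le_left : W ≤ U) m)
    let s₁ : Γ(oD k D, W) := mkSec k D W g₁ fun z hz => (hg₁ z hz.2.1).le
    let s₂ : Γ(oD k E, W) := mkSec k E W g₂ fun z hz => (hg₂ z hz.2.2).le
    let t : Γ(CohB1.tensorMod (oD k D) (oD k E), W) := SecTwist.tmul (oD k D) (oD k E) W s₁ s₂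
    refine ⟨(CohB1.tensorMod (oD k D) (oD k E)).presheaf.germ W x hxW (a • t), ?_⟩
    rw [stalkLin_germ, Scheme.Modules.Hom.app_smul, ← TopCat.Presheaf.germ_res_apply (oD k (D + E)).presheaf
      (homOfLE (inf_le_left : W ≤ U)) x hxW m]
    refine congrArg _ (Eq.trans ?_ ha.symm)
    rw [InvExt.mres_self]
    congr 1
    exact ((mulPairing k D E).hom_tmul W s₁ s₂).trans (oval_ext fun hV => by
      show oval k (mulSec k D E s₁ s₂) hV = _
      rw [oval_mulSec, oval_mkSec, oval_mkSec, oval_mkSec])
  have hinj : ∀ x : X, Function.Injective (stalkLin (mulHom k D E) x) := by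
    intro x
    obtain ⟨b₁⟩ : Nonempty (Module.Basis (Fin 1) (X.presheaf.stalk x) ((CohB1.tensorMod (oD k D) (oD k E)).presheaf.stalk x)) := by
      obtain ⟨V, e, hx, he⟩ := InvExt.exists_gen_nhd
        (GrothLib.Ample.isInvertible_tensorMod (isInvertible_oD k D) (isInvertible_oD k E)) x
      exact Euler.stalk_basis_of_frame ((InvExt.isGen_iff_isFrame (fun _ => e)).mpr he) hx
    obtain ⟨b₂⟩ : Nonempty (Module.Basis (Fin 1) (X.presheaf.stalk x) ((oD k (D + E)).presheaf.stalk x)) := by
      obtain ⟨V, e, hx, he⟩ := InvExt.exists_gen_nhd (isInvertible_oD k (D + E)) x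
      exact Euler.stalk_basis_of_frame ((InvExt.isGen_iff_isFrame (fun _ => e)).mpr he) hx
    haveI := Module.Finite.of_basis b₁
    have h2 : Function.Injective ((b₂.equiv b₁ (Equiv.refl _)).toLinearMap ∘ₗ stalkLin (mulHom k D E) x) :=
      OrzechProperty.injective_of_surjective_endomorphism _
        ((b₂.equiv b₁ (Equiv.refl _)).surjective.comp (hsurj x))
    exact fun a b hab => h2 (by simp [hab])
  haveI : Mono (mulHom k D E) := (OX.mono_iff _).2 fun x => (ModuleCat.mono_iff_injective _).2 (hinj x)
  haveI : Epi (mulHom k D E) := (OX.epi_iff _).2 fun x => (ModuleCat.epi_iff_surjective _).2 (hsurj x)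
  exact isIso_of_mono_of_epi _

/-- `O(D) ⊗ O(E) ≅ O(D + E)`. -/
noncomputable def tensorIso (D E : Divisor k X.functionField) :
    CohB1.tensorMod (oD k D) (oD k E) ≅ oD k (D + E) :=
  asIso (mulHom k D E)

theorem nonempty_tensor_iso {L M : X.Modules} {D E : Divisor k X.functionField} (e : L ≅ oD k D) (f : M ≅ oD k E) :
    Nonempty (CohB1.tensorMod L M ≅ oD k (D + E)) :=
  ⟨((DCoh.tensorBi (X := X)).mapIso e).app M ≪≫ ((DCoh.tensorBi (X := X)).obj (oD k D)).mapIso f ≪≫ tensorIso k D E⟩

theorem nonempty_tensorPow_iso {L : X.Modules} {D : Divisor k X.functionField} (e : L ≅ oD k D) (n : ℕ) :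
    Nonempty (CohB1.tensorPow L n ≅ oD k (n • D)) := by
  induction n with
  | zero => rw [zero_smul]; exact nonempty_iso_oD_zero k
  | succ n ih =>
    obtain ⟨g⟩ := ih
    rw [succ_nsmul]
    exact nonempty_tensor_iso k g e

theorem mem_vanishingIdeal_iff {U : X.affineOpens} {Z : Closeds X} (a : Γ(X, U.1)) :
    a ∈ (Scheme.IdealSheafData.vanishingIdeal Z).ideal U ↔ ∀ z ∈ (Z : Set X), z ∈ U.1 → z ∉ X.basicOpen a := by
  show a ∈ PrimeSpectrum.vanishingIdeal (U.2.fromSpec ⁻¹' Z) ↔ _
  rw [PrimeSpectrum.mem_vanishingIdeal]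
  constructor
  · intro h z hz hzU hza
    obtain ⟨y, rfl⟩ : z ∈ Set.range U.2.fromSpec := by rw [U.2.range_fromSpec]; exact hzU
    have h1 : y ∈ U.2.fromSpec ⁻¹ᵁ X.basicOpen a := hza
    rw [U.2.fromSpec_preimage_basicOpen] at h1
    exact h1 (h y hz)
  · intro h y hy
    by_contra hya
    have h1 : y ∈ U.2.fromSpec ⁻¹ᵁ X.basicOpen a := by
      rw [U.2.fromSpec_preimage_basicOpen]; exact hya
    exact h _ hy (by rw [← SetLike.mem_coe, ← U.2.range_fromSpec]; exact Set.mem_range_self y) h1

/-- The ideal of a closed point is `O(-P)`. -/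
theorem nonempty_idealMod_point_iso (x : CP X) (hx : IsClosed ({x.1} : Set X)) :
    Nonempty (ClSub.idealMod (Scheme.IdealSheafData.vanishingIdeal ⟨{x.1}, hx⟩) ≅
      oD k (-(Finsupp.single (place k x) 1 : Divisor k X.functionField))) := by
  classical
  set Z : Closeds X := ⟨{x.1}, hx⟩
  set I := Scheme.IdealSheafData.vanishingIdeal Z
  set D : Divisor k X.functionField := -(Finsupp.single (place k x) 1) with hD
  have hDx : D (place k x) = -1 := by simp [hD]
  have hDz : ∀ z : CP X, z ≠ x → D (place k z) = 0 := fun z hz => by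
    have : place k x ≠ place k z := fun e => hz (place_injective e).symm
    simp [hD, Finsupp.single_eq_of_ne' this]
  have hvan : ∀ (T : X.affineOpens) (hxT : x.1 ∈ T.1) (a : Γ(X, T.1)),
      a ∈ I.ideal T ↔ (place k x).1 (X.presheaf.germ T.1 _ (genericPoint_mem hxT) a) < 1 := by
    intro T hxT a
    rw [mem_vanishingIdeal_iff, germ_generic hxT, place_lt_one_iff, IsLocalRing.mem_maximalIdeal, mem_nonunits_iff,
      ← X.mem_basicOpen a x.1 hxT]
    exact ⟨fun h => h x.1 rfl hxT, fun h z hz _ => by rw [show z = x.1 from hz]; exact h⟩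
  have hbound : ∀ (W : X.Opens) (s : Γ(ClSub.idealMod I, W)) (z : CP X) (hz : z.1 ∈ W),
      (place k z).1 (X.presheaf.germ W _ (genericPoint_mem hz) (IdealModSec.val I W s)) ≤ exp (D (place k z)) := by
    intro W s z hz
    rcases eq_or_ne z x with rfl | hne
    · obtain ⟨T, hzT, hT⟩ := GrothLib.BlowUp.exists_affine_mem_le hz
      have h1 := (hvan T hzT _).1 (IdealModSec.val_mem I T (InvExt.mres _ hT s))
      rw [IdealModSec.val_mres, InvExt.fres, TopCat.Presheaf.germ_res_apply] at h1
      rw [hDx, ← zero_sub (1 : ℤ), FunFld.le_exp_sub_one_iff, exp_zero]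
      exact h1
    · rw [hDz z hne, exp_zero]
      exact place_germ_le_one k z hz _
  let φ : ClSub.idealMod I ⟶ oD k D :=
    ⟨PresheafOfModules.homMk
      { app := fun W => AddCommGrpCat.ofHom
          { toFun := fun s => (oDData k D).lift
              (fun hV => X.presheaf.germ W.unop _ hV.down (IdealModSec.val I W.unop s)) (fun z hz => hbound W.unop s z hz)
            map_zero' := oval_ext fun hV => by
              show X.presheaf.germ W.unop _ hV (IdealModSec.val I W.unop 0) = 0
              rw [IdealModSec.val_zero, map_zero]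
            map_add' := fun s t => oval_ext fun hV => by
              show X.presheaf.germ W.unop _ hV (IdealModSec.val I W.unop (s + t)) =
                X.presheaf.germ W.unop _ hV (IdealModSec.val I W.unop s) + X.presheaf.germ W.unop _ hV (IdealModSec.val I W.unop t)
              rw [← map_add]; congr 1
              exact map_add ((ClSub.idealModι I).app W.unop).hom s t }
        naturality := fun W W' i => AddCommGrpCat.ext fun s => oval_ext fun hV => by
          show X.presheaf.germ W'.unop _ hV (IdealModSec.val I W'.unop (InvExt.mres _ i.unop.le s)) =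
            X.presheaf.germ W.unop _ (i.unop.le hV) (IdealModSec.val I W.unop s)
          rw [IdealModSec.val_mres, InvExt.fres, TopCat.Presheaf.germ_res_apply] }
      fun W a s => oval_ext fun hV => by
        show X.presheaf.germ W.unop _ hV (IdealModSec.val I W.unop ((show Γ(X, W.unop) from a) • s)) =
          X.presheaf.germ W.unop _ hV (show Γ(X, W.unop) from a) * X.presheaf.germ W.unop _ hV (IdealModSec.val I W.unop s)
        exact (congrArg (fun b => X.presheaf.germ W.unop _ hV b) (IdealModSec.val_smul I W.unop (show Γ(X, W.unop) from a) s)).trans (map_mul _ _ _)⟩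
  have hbij : ∀ W : X.Opens, Function.Bijective (φ.app W) := by
    intro W
    by_cases hW : genericPoint X ∈ W
    · haveI : Nonempty W := ⟨⟨_, hW⟩⟩
      refine ⟨fun s t hst => IdealModSec.val_injective I W
        (germ_injective_of_isIntegral X (genericPoint X) hW (congrArg (fun u => oval k u hW) hst)), fun m => ?_⟩
      have hle : ∀ z : CP X, z.1 ∈ W → (place k z).1 (oval k m hW) ≤ 1 := fun z hz =>
        (oval_bound m z hz).trans (by
          rw [← exp_zero, exp_le_exp]
          rcases eq_or_ne z x with rfl | hne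
          · rw [hDx]; norm_num
          · rw [hDz z hne])
      obtain ⟨a, ha⟩ := exists_section_of_regular k hW (oval k m hW) hle
      obtain ⟨s, hs⟩ := (IdealModSec.app_kernel (ClSub.toSubscheme I) W).2 a (by
        let ι := {T : X.affineOpens // T.1 ≤ W}
        have hcov : W ≤ ⨆ T : ι, T.1.1 := fun z hz => by
          obtain ⟨T, hzT, hT⟩ := GrothLib.BlowUp.exists_affine_mem_le hz
          exact Opens.mem_iSup.mpr ⟨⟨T, hT⟩, hzT⟩
        refine TopCat.Sheaf.eq_of_locally_eq' ⟨(ClSub.quotMod I).presheaf, (ClSub.quotMod I).isSheaf⟩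
          (fun T : ι => T.1.1) W (fun T => homOfLE T.2) hcov _ _ fun T => ?_
        refine (ConcreteCategory.congr_hom ((ClSub.toSubscheme I).mapPresheaf.naturality (homOfLE T.2).op) a).symm.trans
          (Eq.trans ?_ (map_zero ((ClSub.quotMod I).presheaf.map (homOfLE T.2).op).hom).symm)
        show I.subschemeι.app T.1.1 (InvExt.fres X T.2 a) = 0
        have hker : InvExt.fres X T.2 a ∈ I.ideal T.1 := by
          by_cases hxT : x.1 ∈ T.1.1
          · rw [hvan T.1 hxT, InvExt.fres, TopCat.Presheaf.germ_res_apply, ha]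
            refine lt_of_le_of_lt (oval_bound m x (T.2 hxT)) ?_
            rw [hDx, ← exp_zero, exp_lt_exp]; norm_num
          · rw [mem_vanishingIdeal_iff]
            exact fun z hz hzT => absurd ((show z = x.1 from hz) ▸ hzT) hxT
        rw [← I.ker_subschemeι_app T.1] at hker
        exact hker)
      exact ⟨s, oval_ext fun hV => (congrArg (fun b => X.presheaf.germ W _ hV b) (show IdealModSec.val I W s = a from hs)).trans ha⟩
    · refine ⟨fun s t _ => IdealModSec.val_injective I W (TopCat.Presheaf.section_ext X.sheaf W _ _ fun y hy =>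
        (hW (genericPoint_mem hy)).elim), fun m => ⟨0, oval_ext fun hV => (hW hV).elim⟩⟩
  haveI : Mono φ := QCoh.mono_of_app_injective _ fun W => (hbij W).1
  haveI : Epi φ := (OX.epi_iff φ).2 fun z => (ModuleCat.epi_iff_surjective _).2
    (Euler.stalkLin_bijective_of_app_bijective φ (O := ⊤) (x := z) trivial fun T _ => hbij T).2
  haveI := isIso_of_mono_of_epi φ
  exact ⟨asIso φ⟩

end GrothLib.CurveRR
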