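import Groth.Agent.Lib.CurveRR.Dual

/-!
# Duality for bundles: every functional on `H¹(E)` is given by a map to the canonical sheaf
-/

set_option linter.style.haveILetI false

universe u

open CategoryTheory CategoryTheory.Limits AlgebraicGeometry TopologicalSpace Opposite WithZero
open _root_.FunFld (Place Divisor)
open GrothLib.ProjCoh (ratFun genericPoint_mem)
open GrothLib.QCoh (stalkLin stalkLin_germ)
open GrothLib.FinCov (IsFrame)

namespace GrothLib.CurveRR

attribute [local instance] Abelian.hasFiniteBiproducts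

variable {k : Type u} [Field k] {X : Scheme.{u}} [IsIntegral X] [RegCurve X]
  [X.Over (Spec (CommRingCat.of k))] [IsProper (X ↘ Spec (CommRingCat.of k))]

/-- The pole divisor, as a bound. -/
theorem exists_bound_divisor (c : X.functionField) :
    ∃ P : Divisor k X.functionField, 0 ≤ P ∧ c ∈ _root_.FunFld.L P := by
  refine ⟨Finsupp.ofSupportFinite (fun P => max 0 (-P.ord c))
    (((isFG k).finite_support_ord c).subset fun P hP h => hP (by simp [h])), fun P => le_max_left _ _, fun P => ?_⟩
  rcases eq_or_ne c 0 with rfl | hc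
  · rw [map_zero]; exact zero_le
  · exact (FunFld.val_le_exp_iff P hc _).2 (by
      show -(max 0 (-P.ord c)) ≤ P.ord c
      omega)

variable {C : Divisor k X.functionField} (hK : _root_.FunFld.IsFunctionField k X.functionField)
  (hC : _root_.FunFld.IsCanonical k X.functionField C)

include hK hC in
/-- Every linear map `H¹(E) → H¹(ω)` is induced by a morphism `E ⟶ ω`. -/
theorem exists_hom_of_functional {n : ℕ} {E : X.Modules} (hE : FlatMod.IsFinLocFreeOfRank n E)
    (lam : Coh.HH X E 1 →ₗ[k] Coh.HH X (oD k C) 1) :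
    ∃ φ : E ⟶ oD k C, Cohom.hhMap k φ 1 = lam := by
  classical
  haveI := Euler.isNoetherian_of_proper (X := X) k
  letI : Field (X.presheaf.stalk (genericPoint X)) := CurvePoints.isField_stalk_genericPoint.toField
  have hEl : FlatMod.IsFinLocFree E := FinCov.isFinLocFree_of_rank hE
  have hEc := Euler.isCoh_of_isFinLocFree hEl
  have hfr : ∀ z : X, ∃ (T : X.Opens) (e : Fin n → Γ(E, T)), z ∈ T ∧ IsFrame E T e :=
    fun z => FinCov.exists_frame_nhd_of_rank hE z
  obtain ⟨U₀, e₀, hη, he₀⟩ := hfr (genericPoint X)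
  let v : Fin n → E.presheaf.stalk (genericPoint X) := fun i => E.presheaf.germ U₀ _ hη (e₀ i)
  -- the vectors form a basis
  obtain ⟨b'⟩ := Euler.stalk_basis_of_frame he₀ hη
  have hspan : (⊤ : Submodule (X.presheaf.stalk (genericPoint X)) (E.presheaf.stalk (genericPoint X))) ≤
      Submodule.span _ (Set.range v) := by
    intro u _
    obtain ⟨U, hU, s, rfl⟩ := TopCat.Presheaf.exists_germ_eq E.presheaf u
    obtain ⟨a, ha⟩ := (he₀ (U ⊓ U₀) inf_le_right).2 (E.presheaf.map (homOfLE inf_le_left).op s)
    rw [← TopCat.Presheaf.germ_res_apply E.presheaf (homOfLE (inf_le_left : U ⊓ U₀ ≤ U)) (genericPoint X) ⟨hU, hη⟩ s,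
      ← ha, map_sum]
    refine Submodule.sum_mem _ fun j _ => ?_
    rw [germ_smul_generic, TopCat.Presheaf.germ_res_apply]
    exact Submodule.smul_mem _ _ (Submodule.subset_span ⟨j, rfl⟩)
  let b := basisOfTopLeSpanOfCardEqFinrank v hspan
    (by rw [Module.finrank_eq_card_basis b'])
  have hb : ∀ i, b i = v i := fun i => congrFun (coe_basisOfTopLeSpanOfCardEqFinrank _ _ _) i
  -- the maps from `O(D)`
  choose Di hDi0 hDiU hDiA using fun i => exists_adm (k := k) (e₀ i) hη hfr
  let D : Divisor k X.functionField := ∑ i, Di i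
  have hDle : ∀ i, D ≤ Di i := fun i P => by
    show (∑ j, Di j) P ≤ Di i P
    rw [Finsupp.finsetSum_apply, ← Finset.add_sum_erase _ _ (Finset.mem_univ i)]
    exact add_le_of_nonpos_right (Finset.sum_nonpos fun j _ => hDi0 j P)
  choose f hf using fun i => exists_vecHom hEl (hDiA i D (hDle i))
  have hext : ∀ {D' : Divisor k X.functionField} (α β : oD k D' ⟶ E),
      (∀ (W : X.Opens) (hηW : genericPoint X ∈ W) (s : Γ(oD k D', W)),
        E.presheaf.germ W _ hηW (α.app W s) = E.presheaf.germ W _ hηW (β.app W s)) → α = β := by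
    intro D' α β h
    refine Scheme.Modules.hom_ext _ _ fun W => AddCommGrpCat.ext fun s => ?_
    by_cases hηW : genericPoint X ∈ W
    · exact germ_generic_injective hEl hηW (h W hηW s)
    · rw [show s = 0 from oval_ext fun hV => absurd hV hηW]
      exact (map_zero (α.app W).hom).trans (map_zero (β.app W).hom).symm
  -- their images span the cohomology
  let g : (⨁ fun _ : Fin n => oD k D) ⟶ E := biproduct.desc f
  have happ : ∀ (W : X.Opens) (s : Γ(⨁ fun _ : Fin n => oD k D, W)),
      s = ∑ i, (biproduct.ι (fun _ : Fin n => oD k D) i).app W ((biproduct.π (fun _ : Fin n => oD k D) i).app W s) := by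
    intro W s
    let ev : ((⨁ fun _ : Fin n => oD k D) ⟶ ⨁ fun _ : Fin n => oD k D) →+ Γ(⨁ fun _ : Fin n => oD k D, W) :=
      { toFun := fun p => p.app W s
        map_zero' := rfl
        map_add' := fun p q => by rw [Scheme.Modules.Hom.add_app]; rfl }
    have h := congrArg ev (biproduct.total (f := fun _ : Fin n => oD k D))
    rw [map_sum] at h
    exact h.symm
  haveI : Mono g := QCoh.mono_of_app_injective _ fun W => by
    refine (injective_iff_map_eq_zero (g.app W).hom).2 fun s hs => ?_
    by_cases hηW : genericPoint X ∈ W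
    · have h1 : E.presheaf.germ W _ hηW (g.app W s) = 0 :=
        (congrArg (fun t => E.presheaf.germ W _ hηW t) hs).trans (map_zero (E.presheaf.germ W _ hηW).hom)
      rw [happ W s, map_sum, map_sum] at h1
      have h2 : ∑ i, (show X.presheaf.stalk (genericPoint X) from
          oval k ((biproduct.π (fun _ : Fin n => oD k D) i).app W s) hηW) • b i = 0 := by
        refine Eq.trans (Finset.sum_congr rfl fun i _ => ?_) h1
        rw [hb, ← hf i W hηW]
        congr 1
        exact (ConcreteCategory.congr_hom (congrArg (fun φ => Scheme.Modules.Hom.app φ W) (biproduct.ι_desc f i))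
          ((biproduct.π (fun _ : Fin n => oD k D) i).app W s)).symm
      have h3 := Fintype.linearIndependent_iff.1 b.linearIndependent _ h2
      rw [happ W s]
      refine Finset.sum_eq_zero fun i _ => ?_
      rw [show (biproduct.π (fun _ : Fin n => oD k D) i).app W s = 0 from oval_ext fun hV => h3 i]
      exact map_zero ((biproduct.ι (fun _ : Fin n => oD k D) i).app W).hom
    · rw [happ W s]
      refine Finset.sum_eq_zero fun i _ => ?_
      rw [show (biproduct.π (fun _ : Fin n => oD k D) i).app W s = 0 from oval_ext fun hV => absurd hV hηW]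
      exact map_zero ((biproduct.ι (fun _ : Fin n => oD k D) i).app W).hom
  have hgη : Function.Surjective (stalkLin g (genericPoint X)) := by
    intro u
    have hS := Set.finite_iUnion fun i => finite_bad k D (b.repr u i : X.functionField)
    obtain ⟨V, hV⟩ := exists_open_avoiding hS
    have hηV : genericPoint X ∈ V := (hV _).2 fun z _ => z.2
    have hbd : ∀ i (P : CP X), P.1 ∈ V → (place k P).1 (b.repr u i : X.functionField) ≤ exp (D (place k P)) := by
      intro i P hP
      have h1 := fun hbad => (hV P.1).1 hP P (Set.mem_iUnion.2 ⟨i, hbad⟩) rfl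
      have hD : D (place k P) = 0 := by by_contra hc; exact h1 (Or.inl hc)
      have ho : (place k P).ord (b.repr u i : X.functionField) = 0 := by by_contra hc; exact h1 (Or.inr hc)
      rcases eq_or_ne (b.repr u i : X.functionField) 0 with h0 | h0
      · rw [h0, map_zero]; exact zero_le
      · rw [FunFld.val_eq (place k P) h0, ho, hD, neg_zero]
    let t : Γ(⨁ fun _ : Fin n => oD k D, V) :=
      ∑ i, (biproduct.ι (fun _ : Fin n => oD k D) i).app V (mkSec k D V (b.repr u i) (hbd i))
    refine ⟨(⨁ fun _ : Fin n => oD k D).presheaf.germ V _ hηV t, ?_⟩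
    rw [stalkLin_germ, map_sum, map_sum]
    refine Eq.trans (Finset.sum_congr rfl fun i _ => ?_) (b.sum_repr u)
    rw [hb]
    refine Eq.trans (congrArg (fun w => E.presheaf.germ V _ hηV w) ?_) ((hf i V hηV (mkSec k D V (b.repr u i) (hbd i))).trans ?_)
    · exact ConcreteCategory.congr_hom (congrArg (fun φ => Scheme.Modules.Hom.app φ V) (biproduct.ι_desc f i)) _
    · rfl
  have hspanH : ∀ x : Coh.HH X E 1, ∃ y : Fin n → Coh.HH X (oD k D) 1, x = ∑ i, Cohom.hhMap k (f i) 1 (y i) := by
    intro x
    obtain ⟨y, rfl⟩ := surjective_H1_of_generic (k := k) g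
      (QCoh.isCoh_biproduct_fin _ fun _ => isCoh_oD k D) hEc hgη x
    refine ⟨fun i => Cohom.hhMap k (biproduct.π (fun _ : Fin n => oD k D) i) 1 y, ?_⟩
    conv_lhs => rw [← Euler.hhMap_id (A := k) (⨁ fun _ : Fin n => oD k D) 1 y,
      ← biproduct.total (f := fun _ : Fin n => oD k D), hhMap_sum, map_sum]
    refine Finset.sum_congr rfl fun i _ => ?_
    rw [Euler.hhMap_comp, ← Euler.hhMap_comp (f := biproduct.ι (fun _ : Fin n => oD k D) i), biproduct.ι_desc]
  -- the coordinates
  choose x hx using fun i => (pairing_bijective hK hC D).2 (lam ∘ₗ Cohom.hhMap k (f i) 1)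
  let Φ : E.presheaf.stalk (genericPoint X) →ₗ[X.presheaf.stalk (genericPoint X)] X.presheaf.stalk (genericPoint X) :=
    b.constr ℕ fun i => ((x i).1 : X.functionField)
  have hΦ : ∀ u, (Φ u : X.functionField) = ∑ i, (b.repr u i : X.functionField) * (x i).1 := fun u => by
    rw [show Φ u = ∑ i, b.repr u i • (show X.presheaf.stalk (genericPoint X) from (x i).1) from
      b.constr_apply_fintype ℕ _ u]
    rfl
  have hint : ∀ (D' : Divisor k X.functionField) (w : E.presheaf.stalk (genericPoint X)),
      Adm E D' w → (Φ w : X.functionField) ∈ _root_.FunFld.L (C - D') := by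
    intro D' w hw
    obtain ⟨fw, hfw⟩ := exists_vecHom hEl hw
    obtain ⟨xw, hxw⟩ := (pairing_bijective hK hC D').2 (lam ∘ₗ Cohom.hhMap k fw 1)
    choose P hP0 hPc using fun i => exists_bound_divisor (k := k) (b.repr w i : X.functionField)
    let D'' : Divisor k X.functionField := (D ⊓ D') - ∑ i, P i
    have hS0 : 0 ≤ ∑ i, P i := Finset.sum_nonneg fun i _ => hP0 i
    have h1 : (1 : X.functionField) ∈ _root_.FunFld.L (D' - D'') := fun Q => by
      rw [map_one, ← exp_zero, exp_le_exp]
      have a1 : (D ⊓ D') Q ≤ D' Q := (inf_le_right : D ⊓ D' ≤ D') Q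
      have a2 : (0 : ℤ) ≤ (∑ i, P i) Q := hS0 Q
      simp only [D'', Finsupp.sub_apply]
      omega
    have h2 : ∀ i, (b.repr w i : X.functionField) ∈ _root_.FunFld.L (D - D'') := fun i Q => by
      refine (hPc i Q).trans (exp_le_exp.2 ?_)
      have a1 : (D ⊓ D') Q ≤ D Q := (inf_le_left : D ⊓ D' ≤ D) Q
      have a2 : P i Q ≤ (∑ j, P j) Q := by
        rw [Finsupp.finsetSum_apply]
        exact Finset.single_le_sum (fun j _ => hP0 j Q) (Finset.mem_univ i)
      simp only [D'', Finsupp.sub_apply]
      omega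
    have heq : mult (1 : X.functionField) h1 ≫ fw = ∑ i, mult (b.repr w i : X.functionField) (h2 i) ≫ f i := by
      refine hext _ _ fun W hηW s => ?_
      let ev : (oD k D'' ⟶ E) →+ E.presheaf.stalk (genericPoint X) :=
        { toFun := fun p => E.presheaf.germ W _ hηW (p.app W s)
          map_zero' := map_zero (E.presheaf.germ W _ hηW).hom
          map_add' := fun p q => by rw [Scheme.Modules.Hom.add_app]; exact map_add (E.presheaf.germ W _ hηW).hom _ _ }
      show ev _ = ev _
      rw [map_sum]
      show E.presheaf.germ W _ hηW (fw.app W ((mult (1 : X.functionField) h1).app W s)) =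
        ∑ i, E.presheaf.germ W _ hηW ((f i).app W ((mult (b.repr w i : X.functionField) (h2 i)).app W s))
      rw [hfw]
      refine Eq.trans ?_ (Finset.sum_congr rfl fun i _ => (hf i W hηW _).symm)
      rw [oval_mult, one_mul]
      conv_lhs => rw [← b.sum_repr w, Finset.smul_sum]
      refine Finset.sum_congr rfl fun i _ => ?_
      rw [hb, smul_smul, oval_mult]
      congr 1
      exact mul_comm _ _
    have hmem1 : xw.1 * 1 ∈ _root_.FunFld.L (C - D'') := fun Q => by
      rw [map_mul, show exp ((C - D'') Q) = exp ((C - D') Q) * exp ((D' - D'') Q) by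
        rw [← exp_add]; congr 1; simp only [Finsupp.sub_apply]; ring]
      exact mul_le_mul' (xw.2 Q) (h1 Q)
    have hmem2 : ∀ i, (x i).1 * (b.repr w i : X.functionField) ∈ _root_.FunFld.L (C - D'') := fun i Q => by
      rw [map_mul, show exp ((C - D'') Q) = exp ((C - D) Q) * exp ((D - D'') Q) by
        rw [← exp_add]; congr 1; simp only [Finsupp.sub_apply]; ring]
      exact mul_le_mul' ((x i).2 Q) (h2 i Q)
    have key : pairing C D'' ⟨xw.1 * 1, hmem1⟩ = ∑ i, pairing C D'' ⟨_, hmem2 i⟩ := by
      refine LinearMap.ext fun z => ?_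
      rw [LinearMap.sum_apply]
      show Cohom.hhMap k (mult (xw.1 * 1) hmem1) 1 z = ∑ i, Cohom.hhMap k (mult ((x i).1 * _) (hmem2 i)) 1 z
      rw [← mult_comp h1 xw.2 hmem1, Euler.hhMap_comp]
      refine (LinearMap.congr_fun hxw _).trans ?_
      rw [LinearMap.comp_apply, ← Euler.hhMap_comp, heq, hhMap_sum, map_sum]
      refine Finset.sum_congr rfl fun i _ => ?_
      rw [← mult_comp (h2 i) (x i).2 (hmem2 i), Euler.hhMap_comp, Euler.hhMap_comp]
      exact (LinearMap.congr_fun (hx i) _).symm
    rw [← map_sum] at key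
    have h3 := congrArg Subtype.val ((pairing_bijective hK hC D'').1 key)
    simp only [AddSubmonoidClass.coe_finsetSum, mul_one] at h3
    rw [hΦ, show (∑ i, (b.repr w i : X.functionField) * (x i).1) = xw.1 from
      (Finset.sum_congr rfl fun i _ => mul_comm _ _).trans h3.symm]
    exact xw.2
  have hbound : ∀ (W : X.Opens) (s : Γ(E, W)) (z : CP X) (hz : z.1 ∈ W),
      (place k z).1 (Φ (E.presheaf.germ W _ (genericPoint_mem hz) s) : X.functionField) ≤ exp (C (place k z)) := by
    intro W s z hz
    obtain ⟨T, e, hzT, he⟩ := hfr z.1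
    have hηT := genericPoint_mem hzT
    obtain ⟨a, ha⟩ := (he (W ⊓ T) inf_le_right).2 (E.presheaf.map (homOfLE inf_le_left).op s)
    have hηW : genericPoint X ∈ W ⊓ T := ⟨genericPoint_mem hz, hηT⟩
    have hgerm : E.presheaf.germ W _ (genericPoint_mem hz) s =
        ∑ j, X.presheaf.germ (W ⊓ T) _ hηW (a j) • E.presheaf.germ T _ hηT (e j) := by
      rw [← TopCat.Presheaf.germ_res_apply E.presheaf (homOfLE (inf_le_left : W ⊓ T ≤ W)) (genericPoint X) hηW s,
        ← ha, map_sum]
      refine Finset.sum_congr rfl fun j _ => ?_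
      rw [germ_smul_generic, TopCat.Presheaf.germ_res_apply]
    rw [hgerm, map_sum]
    refine Valuation.map_sum_le _ fun j _ => ?_
    rw [map_smul]
    obtain ⟨D', -, hD'T, hD'A⟩ := exists_adm (k := k) (e j) hηT hfr
    have h1 := hint D' _ (hD'A D' le_rfl) (place k z)
    rw [Finsupp.sub_apply, hD'T z hzT, sub_zero] at h1
    show (place k z).1 ((_ : X.functionField) * _) ≤ _
    rw [map_mul]
    exact (mul_le_mul' (place_germ_le_one k z (V := W ⊓ T) ⟨hz, hzT⟩ (a j)) h1).trans_eq (one_mul _)
  let φ : E ⟶ oD k C :=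
    ⟨PresheafOfModules.homMk
      { app := fun W => AddCommGrpCat.ofHom
          { toFun := fun s => (oDData k C).lift
              (fun hV => (Φ (E.presheaf.germ W.unop _ hV.down s) : X.functionField)) (fun z hz => hbound W.unop s z hz)
            map_zero' := oval_ext fun hV => by
              show (Φ (E.presheaf.germ W.unop _ hV 0) : X.functionField) = 0
              exact (congrArg Φ (map_zero (E.presheaf.germ W.unop _ hV).hom)).trans (map_zero Φ)
            map_add' := fun s t => oval_ext fun hV => by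
              show Φ (E.presheaf.germ W.unop _ hV (s + t)) =
                Φ (E.presheaf.germ W.unop _ hV s) + Φ (E.presheaf.germ W.unop _ hV t)
              exact (congrArg Φ (map_add (E.presheaf.germ W.unop _ hV).hom s t)).trans (map_add Φ _ _) }
        naturality := fun W W' i => AddCommGrpCat.ext fun s => oval_ext fun hV => by
          show Φ (E.presheaf.germ W'.unop _ hV (E.presheaf.map i.unop.op s)) = Φ (E.presheaf.germ W.unop _ (i.unop.le hV) s)
          rw [TopCat.Presheaf.germ_res_apply] }
      fun W a s => oval_ext fun hV => by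
        show Φ (E.presheaf.germ W.unop _ hV ((show Γ(X, W.unop) from a) • s)) =
          X.presheaf.germ W.unop _ hV (show Γ(X, W.unop) from a) * Φ (E.presheaf.germ W.unop _ hV s)
        exact (congrArg Φ (germ_smul_generic hV (show Γ(X, W.unop) from a) s)).trans (map_smul Φ _ _)⟩
  refine ⟨φ, LinearMap.ext fun z => ?_⟩
  obtain ⟨y, rfl⟩ := hspanH z
  rw [map_sum, map_sum]
  refine Finset.sum_congr rfl fun i _ => ?_
  rw [← Euler.hhMap_comp]
  have hfi : f i ≫ φ = mult (x i).1 (x i).2 := Scheme.Modules.hom_ext _ _ fun W => AddCommGrpCat.ext fun s =>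
    oval_ext fun hV => by
      show (Φ (E.presheaf.germ W _ hV ((f i).app W s)) : X.functionField) = (x i).1 * oval k s hV
      rw [hf i W hV s, map_smul, mul_comm]
      congr 1
      rw [show E.presheaf.germ U₀ (genericPoint X) hη (e₀ i) = b i from (hb i).symm]
      exact b.constr_basis ℕ _ i
  rw [hfi]
  exact LinearMap.congr_fun (hx i) (y i)

include hK hC in
/-- A bundle with nonvanishing `H¹` maps nontrivially to the canonical sheaf. -/
theorem exists_nonzero_hom_of_H1 {n : ℕ} {E : X.Modules} (hE : FlatMod.IsFinLocFreeOfRank n E)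
    (h : Nontrivial (Coh.HH X E 1)) : ∃ φ : E ⟶ oD k C, φ ≠ 0 := by
  obtain ⟨x, hx⟩ := exists_ne (0 : Coh.HH X E 1)
  haveI := Euler.finiteDimensional_HH k (isCoh_oD k C) 1
  obtain ⟨e⟩ : Nonempty (Coh.HH X (oD k C) 1 ≃ₗ[k] k) :=
    FiniteDimensional.nonempty_linearEquiv_of_finrank_eq (by rw [finrank_H1_canonical hK hC, Module.finrank_self])
  haveI := Euler.finiteDimensional_HH k (Euler.isCoh_of_isFinLocFree (FinCov.isFinLocFree_of_rank hE)) 1
  let bE := Module.finBasis k (Coh.HH X E 1)
  obtain ⟨l, hl⟩ : ∃ l : Coh.HH X E 1 →ₗ[k] k, l x ≠ 0 := by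
    by_contra hall
    push Not at hall
    exact hx (bE.repr.map_eq_zero_iff.1 (Finsupp.ext fun i => hall (bE.coord i)))
  obtain ⟨φ, hφ⟩ := exists_hom_of_functional hK hC hE (e.symm.toLinearMap ∘ₗ l)
  refine ⟨φ, fun h0 => ?_⟩
  have := LinearMap.congr_fun hφ x
  rw [h0, hhMap_zero_hom] at this
  have h1 : (0 : k) = l x := e.symm.injective ((map_zero e.symm).trans this)
  exact hl h1.symm

end GrothLib.CurveRR
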