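import Groth.Agent.Lib.CurveRR.Setup
import Groth.Agent.Lib.Zeta.Points
import Groth.Agent.Lib.FunFld.RH.Main
import Groth.Agent.S4623
import Groth.Prelude.Def_SgaExt
import Groth.Prelude.Def_Curve
import Mathlib.RingTheory.Unramified.Field

/-!
Curves over finite fields and their function fields.
-/

set_option autoImplicit false
set_option linter.style.haveILetI false

universe u

open CategoryTheory CategoryTheory.Limits AlgebraicGeometry TopologicalSpace IsLocalRing
open _root_.FunFld (Place Divisor)
open scoped TensorProduct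

namespace GrothLib.CurveRR

variable {k : Type u} [Field k] {X : Scheme.{u}} [IsIntegral X] [X.Over (Spec (CommRingCat.of k))]

/-- A separable finite extension with irreducible self-product is trivial. -/
theorem finrank_eq_one_of_irreducible (F : Type u) [Field F] [Algebra k F] [FiniteDimensional k F]
    [Algebra.IsSeparable k F] [IrreducibleSpace (PrimeSpectrum (F ⊗[k] F))] : Module.finrank k F = 1 := by
  haveI : Algebra.FormallyUnramified k F := Algebra.FormallyUnramified.of_isSeparable k F
  haveI : IsReduced (F ⊗[k] F) := Algebra.FormallyUnramified.isReduced_of_field F (F ⊗[k] F)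
  haveI hprime : (nilradical (F ⊗[k] F)).IsPrime :=
    PrimeSpectrum.irreducibleSpace_iff_isPrime_nilradical.1 inferInstance
  rw [show nilradical (F ⊗[k] F) = ⊥ from nilradical_eq_zero _] at hprime
  haveI : IsDomain (F ⊗[k] F) := IsDomain.of_bot_isPrime _
  have hF : IsField (F ⊗[k] F) := isField_of_isIntegral_of_isField' (R := k) (Field.toIsField k)
  letI := hF.toField
  let μ : F ⊗[k] F →ₐ[k] F := Algebra.TensorProduct.lmul' k
  have h1 := LinearMap.finrank_le_finrank_of_injective (f := μ.toLinearMap) μ.toRingHom.injective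
  rw [Module.finrank_tensorProduct] at h1
  have h2 : 0 < Module.finrank k F := Module.finrank_pos
  nlinarith

/-- A geometrically irreducible integral proper scheme over a perfect field has only constant functions. -/
theorem finrank_H0_eq_one_of_geometricallyIrreducible [PerfectField k]
    [IsProper (X ↘ Spec (CommRingCat.of k))] [GeometricallyIrreducible (X ↘ Spec (CommRingCat.of k))] :
    Module.finrank k (Coh.HH X (Coh.structureModule X) 0) = 1 := by
  let ψ : k →+* Γ(X, ⊤) := Coh.toGlobal (X ↘ Spec (CommRingCat.of k))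
  letI : Algebra k Γ(X, ⊤) := ψ.toAlgebra
  let e : Coh.HH X (Coh.structureModule X) 0 ≃ₗ[k] Γ(X, ⊤) :=
    { ProjCoh.H0top (Coh.structureModule X) with
      map_smul' := fun a h => (ProjCoh.H0top_smul (Coh.structureModule X) a h).trans (Algebra.smul_def (R := k) (A := Γ(X, ⊤)) a (ProjCoh.H0top (Coh.structureModule X) h)).symm }
  haveI := Euler.finiteDimensional_HH k (Euler.isCoh_of_isInvertible (Euler.isInvertible_structure (X := X))) 0
  haveI : Module.Finite k Γ(X, ⊤) := Module.Finite.equiv e
  haveI : Nonempty (⊤ : X.Opens) := ⟨⟨genericPoint X, trivial⟩⟩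
  rw [e.finrank_eq]
  have hF : IsField Γ(X, ⊤) := isField_of_isIntegral_of_isField' (R := k) (Field.toIsField k)
  letI : Field Γ(X, ⊤) := hF.toField
  let ι : Spec (CommRingCat.of Γ(X, ⊤)) ⟶ Spec (CommRingCat.of k) := Spec.map (CommRingCat.ofHom ψ)
  haveI : Surjective X.toSpecΓ := ⟨fun y => ⟨genericPoint X, @Subsingleton.elim _
    (inferInstanceAs (Subsingleton (PrimeSpectrum Γ(X, ⊤)))) _ _⟩⟩
  have hgi : GeometricallyIrreducible ι :=
    Groth.Agent.S4623.result (X ↘ Spec (CommRingCat.of k)) ι X.toSpecΓ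
      (eq_toSpecΓ k (X ↘ Spec (CommRingCat.of k))).symm
  have hirr : IrreducibleSpace ↥(pullback ι ι) :=
    hgi.geometrically_irreducibleSpace _ _ _ (IsPullback.of_hasPullback ι ι)
  haveI : IrreducibleSpace (PrimeSpectrum (Γ(X, ⊤) ⊗[k] Γ(X, ⊤))) := by
    haveI := hirr
    exact (pullbackSpecIso k Γ(X, ⊤) Γ(X, ⊤)).hom.homeomorph.surjective.irreducibleSpace
      (pullbackSpecIso k Γ(X, ⊤) Γ(X, ⊤)).hom.homeomorph.continuous
  exact finrank_eq_one_of_irreducible Γ(X, ⊤)

variable (k) [RegCurve X]

theorem toRes_eq (x : X) :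
    GrothLib.AffDom.toRes (X ↘ Spec (CommRingCat.of k)) x = (residue (X.presheaf.stalk x)).comp (cst k x) := by
  have h : CommRingCat.ofHom (GrothLib.AffDom.toRes (X ↘ Spec (CommRingCat.of k)) x) =
      CommRingCat.ofHom ((residue (X.presheaf.stalk x)).comp (cst k x)) := by
    apply Spec.map_injective
    rw [GrothLib.AffDom.SpecMap_toRes]
    refine (Category.assoc _ _ _).trans ?_
    rw [fromSpecStalk_over]
    exact (Spec.map_comp _ _).symm
  exact congrArg CommRingCat.Hom.hom h

/-- The degree of the place of a point is its residue degree. -/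
theorem deg_place (x : CP X) :
    (place k x).deg = EGA4loc.residueDegree (X ↘ Spec (CommRingCat.of k)) x.1 := by
  letI := (GrothLib.AffDom.toRes (X ↘ Spec (CommRingCat.of k)) x.1).toAlgebra
  rw [GrothLib.Zeta.residueDegree_eq_finrank]
  let P := place k x
  let φ : X.presheaf.stalk x.1 →+* P.O :=
    (algebraMap (X.presheaf.stalk x.1) X.functionField).codRestrict P.O.toSubring
      fun r => (mem_place_O k).2 ⟨r, rfl⟩
  have hφ : Function.Surjective φ := fun z => by
    obtain ⟨r, hr⟩ := (mem_place_O k).1 z.2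
    exact ⟨r, Subtype.ext hr⟩
  let ψ : X.presheaf.stalk x.1 →+* IsLocalRing.ResidueField P.O := (residue P.O).comp φ
  have hker : RingHom.ker ψ = maximalIdeal (X.presheaf.stalk x.1) :=
    Ideal.ext fun r => (FunFld.res_eq_zero_iff P (φ r)).trans (place_lt_one_iff k)
  let e : X.residueField x.1 ≃+* IsLocalRing.ResidueField P.O :=
    (Ideal.quotEquivOfEq hker.symm).trans
      (RingHom.quotientKerEquivOfSurjective (IsLocalRing.residue_surjective.comp hφ))
  let e' : X.residueField x.1 ≃ₐ[k] IsLocalRing.ResidueField P.O := AlgEquiv.ofRingEquiv (f := e) fun c => by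
    show e (GrothLib.AffDom.toRes (X ↘ Spec (CommRingCat.of k)) x.1 c) = _
    rw [toRes_eq]
    show residue P.O (φ (cst k x.1 c)) = residue P.O (algebraMap k P.O c)
    congr 1
    exact Subtype.ext ((algebraMap_cst k x.1 c).trans (FunFld.algebraMap_O_coe P c).symm)
  exact e'.toLinearEquiv.finrank_eq.symm

variable [IsProper (X ↘ Spec (CommRingCat.of k))]

include k in
theorem isClosed_iff_ne_genericPoint (x : X) : IsClosed ({x} : Set X) ↔ x ≠ genericPoint X := by
  refine ⟨?_, fun hx => ?_⟩
  · rintro hc rfl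
    obtain ⟨P⟩ := FunFld.IsFG.exists_place (isFG k (X := X))
    obtain ⟨⟨y, hy⟩, -⟩ := place_surjective (k := k) P
    have h1 : y ∈ closure ({genericPoint X} : Set X) := by rw [genericPoint_closure]; trivial
    rw [hc.closure_eq] at h1
    exact hy h1
  · have h := deg_place k (⟨x, hx⟩ : CP X)
    rw [← GrothLib.Zeta.residueDegree_pos_iff (X ↘ Spec (CommRingCat.of k)), ← h]
    exact FunFld.IsFG.deg_pos (isFG k (X := X)) _

/-- Points with values in an extension are counted by places. -/
theorem pointCount_eq_pointSum [Finite k] (k' : Type u) [Field k'] [Algebra k k'] [Finite k'] :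
    SgaExt.pointCount (X ↘ Spec (CommRingCat.of k)) k' =
      FunFld.RH.pointSum k X.functionField (Module.finrank k k') := by
  classical
  haveI := GrothLib.Zeta.finite_dvdPts (X ↘ Spec (CommRingCat.of k)) k'
  letI := Fintype.ofFinite (GrothLib.Zeta.DvdPts (X ↘ Spec (CommRingCat.of k)) k')
  rw [GrothLib.Zeta.pointCount_eq_sum, FunFld.RH.pointSum]
  let g : GrothLib.Zeta.DvdPts (X ↘ Spec (CommRingCat.of k)) k' →
      {P : Place k X.functionField // P.deg ∣ Module.finrank k k'} := fun s =>
    ⟨place k ⟨s.1, (isClosed_iff_ne_genericPoint k s.1).1 s.2.1⟩, by rw [deg_place]; exact s.2.2⟩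
  have hg : Function.Bijective g := by
    refine ⟨fun a b h => ?_, fun ⟨P, hP⟩ => ?_⟩
    · have h1 : (⟨a.1, (isClosed_iff_ne_genericPoint k a.1).1 a.2.1⟩ : CP X) =
          ⟨b.1, (isClosed_iff_ne_genericPoint k b.1).1 b.2.1⟩ := place_injective (k := k) (congrArg Subtype.val h)
      exact Subtype.ext (congrArg (fun z : CP X => z.1) h1)
    · obtain ⟨⟨x, hx⟩, rfl⟩ := place_surjective (k := k) P
      exact ⟨⟨x, (isClosed_iff_ne_genericPoint k x).2 hx, by rw [← deg_place k ⟨x, hx⟩]; exact hP⟩, rfl⟩
  rw [← finsum_eq_sum_of_fintype]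
  exact finsum_eq_of_bijective
    (f := fun s : GrothLib.Zeta.DvdPts (X ↘ Spec (CommRingCat.of k)) k' =>
      EGA4loc.residueDegree (X ↘ Spec (CommRingCat.of k)) s.1)
    (g := fun P : {P : Place k X.functionField // P.deg ∣ Module.finrank k k'} => P.1.deg)
    g hg fun s => (deg_place k ⟨s.1, (isClosed_iff_ne_genericPoint k s.1).1 s.2.1⟩).symm

end GrothLib.CurveRR
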