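import Groth.Agent.Lib.CurveRR.Dual2
import Groth.Agent.Lib.Euler.Slope3

/-!
# Vanishing of the first cohomology of semistable bundles of large slope
-/

set_option linter.style.haveILetI false

universe u

open CategoryTheory CategoryTheory.Limits AlgebraicGeometry TopologicalSpace Opposite

namespace GrothLib.CurveRR

variable (k : Type u) [Field k] {X : Scheme.{u}} [IsIntegral X] [RegCurve X]
  [X.Over (Spec (CommRingCat.of k))] [IsProper (X ↘ Spec (CommRingCat.of k))]

theorem pid_stalk (x : X) : IsPrincipalIdealRing (X.presheaf.stalk x) := by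
  by_cases hx : x = genericPoint X
  · subst hx
    letI : Field (X.presheaf.stalk (genericPoint X)) := CurvePoints.isField_stalk_genericPoint.toField
    infer_instance
  · haveI := RegCurve.dvr x hx
    infer_instance

theorem deg_canonical {C : _root_.FunFld.Divisor k X.functionField}
    (hK : _root_.FunFld.IsFunctionField k X.functionField) (hC : _root_.FunFld.IsCanonical k X.functionField C) :
    C.deg = 2 * (_root_.FunFld.genus k X.functionField : ℤ) - 2 :=
  (FunFld.ell_canonical hK hC).2

/-- A bundle with `H¹ ≠ 0` has a quotient line bundle of degree at most `2g - 2`. -/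
theorem exists_quotient_of_H1 (h0 : Module.finrank k (Coh.HH X (Coh.structureModule X) 0) = 1)
    {r : ℕ} {E : X.Modules} (hE : FlatMod.IsFinLocFreeOfRank r E) (h : Nontrivial (Coh.HH X E 1)) :
    ∃ (K I : X.Modules) (a : K ⟶ E) (rK : ℕ), Mono a ∧ FlatMod.IsFinLocFreeOfRank rK K ∧ r = rK + 1 ∧
      Euler.degree k E = Euler.degree k K + Euler.degree k I ∧
      Euler.degree k I ≤ 2 * (Curv2.genus k X : ℤ) - 2 := by
  have hK := isFunctionField k h0
  obtain ⟨C, hC⟩ := FunFld.exists_isCanonical hK
  obtain ⟨φ, hφ⟩ := exists_nonzero_hom_of_H1 hK hC hE h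
  haveI := Euler.isNoetherian_of_proper (X := X) k
  have hω1 := Euler.isFinLocFreeOfRank_one_of_invertible (isInvertible_oD k C)
  obtain ⟨K, I, a, p, j, rK, rI, ha, -, hj, -, -, hKf, hIf, hrk, hdeg, h0', -⟩ :=
    Euler.exists_image_data k pid_stalk (FinCov.isFinLocFree_of_rank hE) (FinCov.isFinLocFree_of_rank hω1) φ
  haveI := hj
  have hle : rI ≤ 1 := by
    have := Euler.grank_le_of_mono j (isCoh_oD k C)
    rwa [Euler.grank_of_locFree hIf, Euler.grank_of_locFree hω1] at this
  have hne : rI ≠ 0 := fun e => hφ (h0' e)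
  obtain rfl : rI = 1 := by omega
  have hd := (Euler.degree_le_of_mono k RegCurve.dim.le j
    (Euler.isCoh_of_isFinLocFree (FinCov.isFinLocFree_of_rank hIf)) (isCoh_oD k C)
    (by rw [Euler.grank_of_locFree hIf, Euler.grank_of_locFree hω1])).1
  rw [← Euler.deg_eq_degree k hω1, deg_oD, deg_canonical k hK hC, ← genus_eq k h0] at hd
  rw [Euler.grank_of_locFree hE] at hrk
  exact ⟨K, I, a, rK, ha, hKf, hrk, hdeg, hd⟩

theorem H1_subsingleton_of_slope (h0 : Module.finrank k (Coh.HH X (Coh.structureModule X) 0) = 1)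
    {r : ℕ} {E : X.Modules} (hE : FlatMod.IsFinLocFreeOfRank r E)
    (hsub : ∀ (K : X.Modules) (rK : ℕ) (a : K ⟶ E), Mono a → r = rK + 1 → FlatMod.IsFinLocFreeOfRank rK K →
      (r : ℤ) * (2 * (Curv2.genus k X : ℤ) - 2) < (r : ℤ) * (Euler.degree k E - Euler.degree k K)) :
    Subsingleton (Coh.HH X E 1) := by
  refine not_nontrivial_iff_subsingleton.1 fun h => ?_
  obtain ⟨K, I, a, rK, ha, hK, hr, hdeg, hI⟩ := exists_quotient_of_H1 k h0 hE h
  have h1 := hsub K rK a ha hr hK
  have h2 : Euler.degree k E - Euler.degree k K ≤ 2 * (Curv2.genus k X : ℤ) - 2 := by omega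
  have := mul_le_mul_of_nonneg_left h2 (Int.natCast_nonneg r)
  omega

end GrothLib.CurveRR
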