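import Groth.Agent.Lib.CurveRR.Stable
import Groth.Agent.Lib.FTDesc.GenOn
import Groth.Prelude.Def_Curv2
import Mathlib.RingTheory.Nakayama

/-!
# Sections vanishing at a point, and generation by global sections
-/

set_option linter.style.haveILetI false

universe u

open CategoryTheory CategoryTheory.Limits AlgebraicGeometry TopologicalSpace Opposite WithZero
open _root_.FunFld (Place Divisor)
open GrothLib.ProjCoh (genericPoint_mem)
open GrothLib.QCoh (stalkLin stalkLin_germ)
open GrothLib.FinCov (IsFrame)
open GrothLib.InvExt (mres fres)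

namespace GrothLib.CurveRR

variable {k : Type u} [Field k] {X : Scheme.{u}} [IsIntegral X] [RegCurve X]
  [X.Over (Spec (CommRingCat.of k))] [IsProper (X ↘ Spec (CommRingCat.of k))]

omit [RegCurve X] [X.Over (Spec (CommRingCat.of k))] [IsProper (X ↘ Spec (CommRingCat.of k))] in
/-- Germs of a frame form a basis of each stalk. -/
theorem bijective_germ_comb {n : ℕ} {F : X.Modules} {D : X.Opens} {e : Fin n → Γ(F, D)}
    (he : IsFrame F D e) {x : X} (hx : x ∈ D) :
    Function.Bijective fun c : Fin n → X.presheaf.stalk x => ∑ i, c i • F.presheaf.germ D x hx (e i) := by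
  let L := Fintype.linearCombination (X.presheaf.stalk x) fun i => F.presheaf.germ D x hx (e i)
  obtain ⟨b⟩ := Euler.stalk_basis_of_frame he hx
  have hsurj : Function.Surjective L := fun v => by
    obtain ⟨U, hU, m, rfl⟩ := TopCat.Presheaf.exists_germ_eq F.presheaf v
    obtain ⟨c, hc⟩ := (he (U ⊓ D) inf_le_right).2 (F.presheaf.map (homOfLE inf_le_left).op m)
    refine ⟨fun i => X.presheaf.germ (U ⊓ D) x ⟨hU, hx⟩ (c i), ?_⟩
    dsimp only at hc
    rw [← TopCat.Presheaf.germ_res_apply F.presheaf (homOfLE (inf_le_left : U ⊓ D ≤ U)) x ⟨hU, hx⟩ m, ← hc,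
      Euler.germ_sum_smul, Fintype.linearCombination_apply]
    exact Finset.sum_congr rfl fun i _ => by rw [TopCat.Presheaf.germ_res_apply]
  have h : Function.Bijective (b.equivFun.toLinearMap ∘ₗ L) :=
    OrzechProperty.bijective_of_surjective_endomorphism _ (b.equivFun.surjective.comp hsurj)
  exact (Function.Bijective.of_comp_iff' b.equivFun.bijective L).1 h

/-- A quotient of a bundle given by a nonzero map to a sheaf of a divisor. -/
theorem exists_quotient_of_hom {r : ℕ} {E : X.Modules} (hE : FlatMod.IsFinLocFreeOfRank r E)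
    {D : Divisor k X.functionField} (φ : E ⟶ oD k D) (hφ : φ ≠ 0) :
    ∃ (K : X.Modules) (a : K ⟶ E) (rK : ℕ), Mono a ∧ FlatMod.IsFinLocFreeOfRank rK K ∧ r = rK + 1 ∧
      Euler.degree k E - Euler.degree k K ≤ D.deg := by
  haveI := Euler.isNoetherian_of_proper (X := X) k
  have hω1 := Euler.isFinLocFreeOfRank_one_of_invertible (isInvertible_oD k D)
  obtain ⟨K, I, a, p, j, rK, rI, ha, -, hj, -, -, hKf, hIf, hrk, hdeg, h0', -⟩ :=
    Euler.exists_image_data k pid_stalk (FinCov.isFinLocFree_of_rank hE) (FinCov.isFinLocFree_of_rank hω1) φ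
  haveI := hj
  have hle : rI ≤ 1 := by
    have := Euler.grank_le_of_mono j (isCoh_oD k D)
    rwa [Euler.grank_of_locFree hIf, Euler.grank_of_locFree hω1] at this
  have hne : rI ≠ 0 := fun e => hφ (h0' e)
  obtain rfl : rI = 1 := by omega
  have hd := (Euler.degree_le_of_mono k RegCurve.dim.le j
    (Euler.isCoh_of_isFinLocFree (FinCov.isFinLocFree_of_rank hIf)) (isCoh_oD k D)
    (by rw [Euler.grank_of_locFree hIf, Euler.grank_of_locFree hω1])).1
  rw [← Euler.deg_eq_degree k hω1, deg_oD] at hd
  rw [Euler.grank_of_locFree hE] at hrk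
  exact ⟨K, a, rK, ha, hKf, hrk, by omega⟩

/-- The sections of a module vanishing at a point. -/
noncomputable def vanishAt (E : X.Modules) (x : X) : QCoh.SubData E where
  sec W :=
    { carrier := {s | ∀ hx : x ∈ W, E.presheaf.germ W x hx s ∈
        IsLocalRing.maximalIdeal (X.presheaf.stalk x) • (⊤ : Submodule (X.presheaf.stalk x) (E.presheaf.stalk x))}
      add_mem' := fun {s t} hs ht hx => by
        rw [map_add]; exact Submodule.add_mem _ (hs hx) (ht hx)
      zero_mem' := fun hx => by rw [map_zero]; exact Submodule.zero_mem _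
      smul_mem' := fun r s hs hx => by
        rw [WeakAss.germ_smul]; exact Submodule.smul_mem _ _ (hs hx) }
  map_mem {U W} i s hs hx := by
    rw [TopCat.Presheaf.germ_res_apply]; exact hs (i.le hx)
  locality {U} s h hx := by
    obtain ⟨W, i, hxW, hW⟩ := h x hx
    have := hW hxW
    rwa [TopCat.Presheaf.germ_res_apply] at this

theorem mem_vanishAt_of_notMem {E : X.Modules} {x : X} {W : X.Opens} (h : x ∉ W) (s : Γ(E, W)) :
    s ∈ (vanishAt E x).sec W := fun hx => absurd hx h

variable (k)

include k in
/-- The sections vanishing at a point form a bundle. -/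
theorem isFinLocFreeOfRank_vanishAt {r : ℕ} {E : X.Modules} (hE : FlatMod.IsFinLocFreeOfRank r E) (x : CP X) :
    FlatMod.IsFinLocFreeOfRank r (vanishAt E x.1).obj := by
  classical
  intro z
  suffices h : ∃ (T : X.Opens) (e : Fin r → Γ((vanishAt E x.1).obj, T)), z ∈ T ∧ IsFrame (vanishAt E x.1).obj T e by
    obtain ⟨T, e, hz, he⟩ := h
    exact ⟨T, hz, FinCov.exists_iso_of_frame he⟩
  obtain ⟨T, e, hzT, he⟩ := FinCov.exists_frame_nhd_of_rank hE z
  have hval : ∀ {T' : X.Opens} (e' : Fin r → Γ((vanishAt E x.1).obj, T')) (W : X.Opens) (hW : W ≤ T')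
      (c : Fin r → Γ(X, W)),
      (vanishAt E x.1).ι.app W (∑ i, c i • (vanishAt E x.1).obj.presheaf.map (homOfLE hW).op (e' i)) =
        ∑ i, c i • E.presheaf.map (homOfLE hW).op ((vanishAt E x.1).ι.app T' (e' i)) := by
    intro T' e' W hW c
    rw [map_sum]
    refine Finset.sum_congr rfl fun i _ => ?_
    rw [Scheme.Modules.Hom.app_smul]
    exact congrArg (c i • ·) (ConcreteCategory.congr_hom ((vanishAt E x.1).ι.mapPresheaf.naturality (homOfLE hW).op) (e' i))
  by_cases hzx : z = x.1
  · subst hzx
    -- a uniformizer at the point, regular and invertible elsewhere near it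
    obtain ⟨π, hπ0, hπ⟩ := FunFld.exists_val_eq (place k x) (-1)
    obtain ⟨V, hV⟩ := exists_open_avoiding ((finite_bad k (0 : Divisor k X.functionField) π).sep fun w => w ≠ x)
    have hxV : x.1 ∈ V := (hV x.1).2 fun w hw h => hw.2 (Subtype.ext h)
    have hπV : ∀ w : CP X, w.1 ∈ V → w ≠ x → (place k w).1 π = 1 := by
      intro w hw hwx
      have h1 := (hV w.1).1 hw w
      have h2 : (place k w).ord π = 0 := by
        by_contra hc
        exact h1 ⟨Or.inr hc, hwx⟩ rfl
      rw [FunFld.val_eq (place k w) hπ0, h2, neg_zero, exp_zero]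
    let T' : X.Opens := T ⊓ V
    have hxT' : x.1 ∈ T' := ⟨hzT, hxV⟩
    obtain ⟨a, ha⟩ := exists_section_of_regular k (genericPoint_mem hxT') π fun w hw => by
      rcases eq_or_ne w x with rfl | hwx
      · rw [hπ, ← exp_zero, exp_le_exp]; norm_num
      · rw [hπV w hw.2 hwx]
    have ham : X.presheaf.germ T' x.1 hxT' a ∈ IsLocalRing.maximalIdeal (X.presheaf.stalk x.1) := by
      rw [← place_lt_one_iff k, ← germ_generic hxT', ha, hπ, ← exp_zero, exp_lt_exp]; norm_num
    let e' : Fin r → Γ((vanishAt E x.1).obj, T') := fun i =>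
      (vanishAt E x.1).lift (a • E.presheaf.map (homOfLE (inf_le_left : T' ≤ T)).op (e i)) fun hx => by
        rw [WeakAss.germ_smul]
        exact Submodule.smul_mem_smul ham Submodule.mem_top
    have hres : ∀ (W : X.Opens) (hW : W ≤ T') (c : Fin r → Γ(X, W)),
        (vanishAt E x.1).ι.app W (∑ i, c i • (vanishAt E x.1).obj.presheaf.map (homOfLE hW).op (e' i)) =
          ∑ i, (c i * fres X hW a) • E.presheaf.map (homOfLE (hW.trans inf_le_left)).op (e i) := by
      intro W hW c
      rw [hval e' W hW c]
      refine Finset.sum_congr rfl fun i _ => ?_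
      rw [QCoh.SubData.ι_app_lift, Scheme.Modules.map_smul, smul_smul, Cohom.map_map_apply]
    refine ⟨T', e', hxT', fun W hW => ⟨fun c d hcd => ?_, fun s => ?_⟩⟩
    · dsimp only at hcd
      have h1 := congrArg ((vanishAt E x.1).ι.app W) hcd
      rw [hres, hres] at h1
      have h2 := (he W (hW.trans inf_le_left)).1 h1
      funext i
      by_cases hηW : genericPoint X ∈ W
      · haveI : Nonempty W := ⟨⟨_, hηW⟩⟩
        refine germ_injective_of_isIntegral X (genericPoint X) hηW ?_
        have h3 := congrArg (X.presheaf.germ W (genericPoint X) hηW) (congrFun h2 i)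
        rw [map_mul, map_mul, fres, TopCat.Presheaf.germ_res_apply, ha] at h3
        exact mul_right_cancel₀ (show (π : X.presheaf.stalk (genericPoint X)) ≠ 0 from hπ0) h3
      · exact TopCat.Presheaf.section_ext X.sheaf W _ _ fun y hy => (hηW (genericPoint_mem hy)).elim
    · obtain ⟨c, hc⟩ := (he W (hW.trans inf_le_left)).2 ((vanishAt E x.1).ι.app W s)
      dsimp only at hc
      have hdiv : ∀ i, ∃ d : Γ(X, W), d * fres X hW a = c i := by
        intro i
        by_cases hηW : genericPoint X ∈ W
        · obtain ⟨d, hd⟩ := exists_section_of_regular k hηW (X.presheaf.germ W _ hηW (c i) / π) fun w hw => by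
            rw [map_div₀]
            rcases eq_or_ne w x with rfl | hwx
            · have hmem := (vanishAt E w.1).ι_app_mem s hw
              rw [← hc, map_sum] at hmem
              have hbij := bijective_germ_comb he (x := w.1) hzT
              have hm : X.presheaf.germ W w.1 hw (c i) ∈ IsLocalRing.maximalIdeal (X.presheaf.stalk w.1) := by
                obtain ⟨b⟩ := Euler.stalk_basis_of_frame he hzT
                let L := LinearEquiv.ofBijective (Fintype.linearCombination (X.presheaf.stalk w.1)
                  fun j => E.presheaf.germ T w.1 hzT (e j)) (by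
                    have : ⇑(Fintype.linearCombination (X.presheaf.stalk w.1) fun j => E.presheaf.germ T w.1 hzT (e j)) =
                        fun cc : Fin r → X.presheaf.stalk w.1 => ∑ j, cc j • E.presheaf.germ T w.1 hzT (e j) :=
                      funext fun cc => Fintype.linearCombination_apply ..
                    rw [this]; exact hbij)
                have hsum : L (fun j => X.presheaf.germ W w.1 hw (c j)) ∈
                    IsLocalRing.maximalIdeal (X.presheaf.stalk w.1) • (⊤ : Submodule (X.presheaf.stalk w.1) (E.presheaf.stalk w.1)) := by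
                  show Fintype.linearCombination _ _ _ ∈ _
                  rw [Fintype.linearCombination_apply]
                  refine Eq.mpr (congrArg (· ∈ _) (Finset.sum_congr rfl fun j _ => ?_)) hmem
                  rw [WeakAss.germ_smul, TopCat.Presheaf.germ_res_apply]
                have h2 : (fun j => X.presheaf.germ W w.1 hw (c j)) ∈ (IsLocalRing.maximalIdeal (X.presheaf.stalk w.1) •
                    (⊤ : Submodule (X.presheaf.stalk w.1) (Fin r → X.presheaf.stalk w.1))) := by
                  have := Submodule.mem_map_of_mem (f := L.symm.toLinearMap) hsum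
                  rw [Submodule.map_smul''] at this
                  simpa using Submodule.smul_mono le_rfl le_top this
                have h3 := Submodule.mem_map_of_mem (f := (LinearMap.proj i : (Fin r → X.presheaf.stalk w.1) →ₗ[X.presheaf.stalk w.1] _)) h2
                rw [Submodule.map_smul''] at h3
                have h4 := Submodule.smul_mono (le_refl (IsLocalRing.maximalIdeal (X.presheaf.stalk w.1))) (le_top (a := Submodule.map (LinearMap.proj i : (Fin r → X.presheaf.stalk w.1) →ₗ[X.presheaf.stalk w.1] _) ⊤)) h3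
                simpa using h4
              rw [germ_generic hw, hπ]
              refine div_le_one_of_le₀ ?_ zero_le
              rw [← zero_sub (1 : ℤ), FunFld.le_exp_sub_one_iff, exp_zero, place_lt_one_iff]
              exact hm
            · rw [hπV w (hW hw).2 hwx, div_one]
              exact place_germ_le_one k w hw _
          refine ⟨d, ?_⟩
          haveI : Nonempty W := ⟨⟨_, hηW⟩⟩
          refine germ_injective_of_isIntegral X (genericPoint X) hηW ?_
          rw [map_mul, hd, fres, TopCat.Presheaf.germ_res_apply, ha]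
          exact div_mul_cancel₀ _ hπ0
        · exact ⟨0, TopCat.Presheaf.section_ext X.sheaf W _ _ fun y hy => (hηW (genericPoint_mem hy)).elim⟩
      choose d hd using hdiv
      refine ⟨d, (vanishAt E x.1).ι_app_injective W ?_⟩
      dsimp only
      rw [hres, ← hc]
      exact Finset.sum_congr rfl fun i _ => by rw [hd]
  · obtain ⟨V, hV⟩ := exists_open_avoiding (Set.finite_singleton x)
    let T' : X.Opens := T ⊓ V
    have hxT' : x.1 ∉ T' := fun h => (hV x.1).1 h.2 x rfl rfl
    let e' : Fin r → Γ((vanishAt E x.1).obj, T') := fun i =>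
      (vanishAt E x.1).lift (E.presheaf.map (homOfLE (inf_le_left : T' ≤ T)).op (e i)) (mem_vanishAt_of_notMem hxT' _)
    refine ⟨T', e', ⟨hzT, (hV z).2 fun w hw h => hzx (h.symm.trans (congrArg Subtype.val hw))⟩, fun W hW => ?_⟩
    have hres : ∀ c : Fin r → Γ(X, W),
        (vanishAt E x.1).ι.app W (∑ i, c i • (vanishAt E x.1).obj.presheaf.map (homOfLE hW).op (e' i)) =
          ∑ i, c i • E.presheaf.map (homOfLE (hW.trans inf_le_left)).op (e i) := by
      intro c
      rw [hval e' W hW c]
      refine Finset.sum_congr rfl fun i _ => ?_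
      rw [QCoh.SubData.ι_app_lift, Cohom.map_map_apply]
    refine ⟨fun c d hcd => (he W (hW.trans inf_le_left)).1 ?_, fun s => ?_⟩
    · dsimp only at hcd ⊢
      rw [← hres, ← hres, hcd]
    · obtain ⟨c, hc⟩ := (he W (hW.trans inf_le_left)).2 ((vanishAt E x.1).ι.app W s)
      exact ⟨c, (vanishAt E x.1).ι_app_injective W ((hres c).trans hc)⟩

/-- A bundle without global generation at `x` has a quotient line bundle of degree at most `2g - 1`. -/
theorem exists_quotient_of_H1_vanishAt [IsAlgClosed k] {r : ℕ} {E : X.Modules}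
    (hE : FlatMod.IsFinLocFreeOfRank r E) (x : CP X) (h : Nontrivial (Coh.HH X (vanishAt E x.1).obj 1)) :
    ∃ (K : X.Modules) (a : K ⟶ E) (rK : ℕ), Mono a ∧ FlatMod.IsFinLocFreeOfRank rK K ∧ r = rK + 1 ∧
      Euler.degree k E - Euler.degree k K ≤ 2 * (Curv2.genus k X : ℤ) - 1 := by
  classical
  have h0 := finrank_H0_structure_eq_one k (X := X)
  have hK := isFunctionField k h0
  obtain ⟨C, hC⟩ := FunFld.exists_isCanonical hK
  obtain ⟨φ, hφ⟩ := exists_nonzero_hom_of_H1 hK hC (isFinLocFreeOfRank_vanishAt k hE x) h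
  let P := vanishAt E x.1
  obtain ⟨V, hV⟩ := exists_open_avoiding (Set.finite_singleton x)
  have hxV : x.1 ∉ V := fun h => (hV x.1).1 h x rfl rfl
  have hηV : genericPoint X ∈ V := (hV _).2 fun z _ => z.2
  let c : ∀ {W : X.Opens}, Γ(E, W) → genericPoint X ∈ W → X.functionField := fun {W} s hη =>
    oval k (φ.app (W ⊓ V) (P.lift (E.presheaf.map (homOfLE (inf_le_left : W ⊓ V ≤ W)).op s)
      (mem_vanishAt_of_notMem (fun h : x.1 ∈ W ⊓ V => hxV h.2) _))) ⟨hη, hηV⟩
  -- the value on a section of the subsheaf
  have hc : ∀ {W : X.Opens} (s : Γ(E, W)) (hs : s ∈ P.sec W) (hη : genericPoint X ∈ W),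
      c s hη = oval k (φ.app W (P.lift s hs)) hη := by
    intro W s hs hη
    rw [← oval_map (homOfLE (inf_le_left : W ⊓ V ≤ W)) (φ.app W (P.lift s hs)) ⟨hη, hηV⟩]
    exact congrArg (fun t => oval k t _) (ConcreteCategory.congr_hom (φ.mapPresheaf.naturality (homOfLE (inf_le_left : W ⊓ V ≤ W)).op) (P.lift s hs))
  have hcmap : ∀ {W W' : X.Opens} (i : W' ⟶ W) (s : Γ(E, W)) (hη : genericPoint X ∈ W'),
      c (E.presheaf.map i.op s) hη = c s (i.le hη) := by
    intro W W' i s hη
    show oval k (φ.app (W' ⊓ V) _) _ = oval k (φ.app (W ⊓ V) _) _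
    rw [← oval_map (homOfLE (inf_le_inf_right V i.le : W' ⊓ V ≤ W ⊓ V)) (φ.app (W ⊓ V) _) ⟨hη, hηV⟩]
    refine congrArg (fun t => oval k t _) ((congrArg (φ.app (W' ⊓ V)) ?_).trans (ConcreteCategory.congr_hom
      (φ.mapPresheaf.naturality (homOfLE (inf_le_inf_right V i.le : W' ⊓ V ≤ W ⊓ V)).op) _))
    refine Subtype.ext ?_
    show E.presheaf.map _ (E.presheaf.map i.op s) = E.presheaf.map _ (E.presheaf.map _ s)
    rw [Cohom.map_map_apply, Cohom.map_map_apply]
  have hadd : ∀ {W : X.Opens} (s t : Γ(E, W)) (hη : genericPoint X ∈ W), c (s + t) hη = c s hη + c t hη := by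
    intro W s t hη
    show oval k _ _ = oval k _ _ + oval k _ _
    rw [← oval_add, ← map_add]
    exact congrArg (fun t => oval k (φ.app _ t) _) (Subtype.ext (map_add (E.presheaf.map _).hom s t))
  have hsmul : ∀ {W : X.Opens} (a : Γ(X, W)) (s : Γ(E, W)) (hη : genericPoint X ∈ W),
      c (a • s) hη = X.presheaf.germ W _ hη a * c s hη := by
    intro W a s hη
    show oval k _ _ = _ * oval k _ _
    rw [← TopCat.Presheaf.germ_res_apply X.presheaf (homOfLE (inf_le_left : W ⊓ V ≤ W)) (genericPoint X) ⟨hη, hηV⟩ a,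
      ← oval_smul, ← Scheme.Modules.Hom.app_smul]
    exact congrArg (fun t => oval k (φ.app _ t) _) (Subtype.ext (Scheme.Modules.map_smul E _ a s))
  set C' : Divisor k X.functionField := C + Finsupp.single (place k x) 1
  have hbound : ∀ {W : X.Opens} (s : Γ(E, W)) (z : CP X) (hz : z.1 ∈ W),
      (place k z).1 (c s (genericPoint_mem hz)) ≤ exp (C' (place k z)) := by
    intro W s z hz
    rcases eq_or_ne z x with rfl | hzx
    · obtain ⟨π, hπ0, hπ⟩ := FunFld.exists_val_eq (place k z) (-1)
      obtain ⟨U, hzU, hU⟩ := exists_local_sec (0 : Divisor k X.functionField) z π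
        (by rw [hπ]; exact exp_le_exp.2 (by simp))
      obtain ⟨a, ha⟩ := exists_section_of_regular k (genericPoint_mem hzU) π fun w hw => by simpa using hU w hw
      have hzUW : z.1 ∈ U ⊓ W := ⟨hzU, hz⟩
      have hη' := genericPoint_mem hzUW
      let a' : Γ(X, U ⊓ W) := X.presheaf.map (homOfLE inf_le_left).op a
      let s' : Γ(E, U ⊓ W) := E.presheaf.map (homOfLE inf_le_right).op s
      have ha' : X.presheaf.germ (U ⊓ W) _ hη' a' = π := by
        rw [TopCat.Presheaf.germ_res_apply]; exact ha
      have hmem : a' • s' ∈ P.sec (U ⊓ W) := fun hx => by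
        rw [WeakAss.germ_smul]
        refine Submodule.smul_mem_smul ?_ Submodule.mem_top
        rw [← place_lt_one_iff k, ← germ_generic hx, ha', hπ, ← exp_zero, exp_lt_exp]
        norm_num
      have h1 := oval_bound (φ.app (U ⊓ W) (P.lift (a' • s') hmem)) z hzUW
      rw [← hc (a' • s') hmem hη', hsmul a' s' hη', ha', map_mul, hπ, hcmap (homOfLE inf_le_right) s hη'] at h1
      have h2 : C' (place k z) = C (place k z) + 1 := by simp [C']
      rw [h2, exp_add, mul_comm]
      have h3 := mul_le_mul' (le_refl (exp (1 : ℤ))) h1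
      rwa [← mul_assoc, ← exp_add, show (1 : ℤ) + -1 = 0 from rfl, exp_zero, one_mul] at h3
    · have hzV : z.1 ∈ W ⊓ V := ⟨hz, (hV z.1).2 fun w hw h => hzx ((Subtype.ext h.symm).trans (Set.mem_singleton_iff.1 hw))⟩
      refine (oval_bound _ z hzV).trans (exp_le_exp.2 ?_)
      simp only [C', Finsupp.add_apply]
      exact le_add_of_nonneg_right (Finsupp.single_nonneg.2 zero_le_one _)
  let ψ : E ⟶ oD k C' :=
    ⟨PresheafOfModules.homMk
      { app := fun W => AddCommGrpCat.ofHom
          { toFun := fun s => (oDData k C').lift (fun hV => c (show Γ(E, W.unop) from s) hV.down)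
              (fun z hz => hbound (show Γ(E, W.unop) from s) z hz)
            map_zero' := oval_ext fun hV => by
              show c (0 : Γ(E, W.unop)) hV = 0
              have := hadd (0 : Γ(E, W.unop)) 0 hV
              rw [add_zero] at this
              exact left_eq_add.1 this
            map_add' := fun s t => oval_ext fun hV =>
              hadd (show Γ(E, W.unop) from s) (show Γ(E, W.unop) from t) hV }
        naturality := fun W W' i => AddCommGrpCat.ext fun s => oval_ext fun hV =>
          hcmap i.unop (show Γ(E, W.unop) from s) hV }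
      fun W a s => oval_ext fun hV =>
        hsmul (show Γ(X, W.unop) from a) (show Γ(E, W.unop) from s) hV⟩
  have hψ : ψ ≠ 0 := fun h0' => hφ (Scheme.Modules.hom_ext _ _ fun W => AddCommGrpCat.ext fun s => oval_ext fun hV => by
    have h1 : c (P.ι.app W s) hV = oval k (φ.app W s) hV := hc (P.ι.app W s) (P.ι_app_mem s) hV
    have h2 : oval k (ψ.app W (P.ι.app W s)) hV = c (P.ι.app W s) hV := rfl
    exact h1.symm.trans ((h2.symm.trans (show oval k (ψ.app W (P.ι.app W s)) hV = 0 by rw [h0']; rfl)).trans rfl))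
  obtain ⟨K, a, rK, ha, hKf, hr, hd⟩ := exists_quotient_of_hom hE ψ hψ
  refine ⟨K, a, rK, ha, hKf, hr, ?_⟩
  rw [FunFld.deg_add, FunFld.deg_single, FunFld.IsFG.deg_eq_one hK.1, deg_canonical k hK hC, ← genus_eq k h0] at hd
  push_cast at hd
  omega

include k in
/-- A bundle all of whose twists down by a point have no `H¹` is globally generated. -/
theorem isGloballyGenerated_of_vanishAt {r : ℕ} {E : X.Modules} (hE : FlatMod.IsFinLocFreeOfRank r E)
    (h : ∀ x : CP X, Subsingleton (Coh.HH X (vanishAt E x.1).obj 1)) :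
    Curv2.IsGloballyGenerated E := by
  classical
  haveI := Euler.isNoetherian_of_proper (X := X) k
  have hEl := FinCov.isFinLocFree_of_rank hE
  have hEc := Euler.isCoh_of_isFinLocFree hEl
  haveI := Euler.finiteDimensional_HH k hEc 0
  let b := Module.finBasis k (Coh.HH X E 0)
  let m : ULift.{u} (Fin (Module.finrank k (Coh.HH X E 0))) → Γ(E, ⊤) := fun i => ProjCoh.H0top E (b i.down)
  -- all global sections lie in the span of the basis
  have hglob : ∀ (y : X) (s : Γ(E, ⊤)), E.presheaf.germ ⊤ y trivial s ∈
      Submodule.span (X.presheaf.stalk y) (Set.range fun i => E.presheaf.germ ⊤ y trivial (m i)) := by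
    intro y s
    obtain ⟨q, rfl⟩ := (ProjCoh.H0top E).surjective s
    have hq := b.mem_span q
    induction hq using Submodule.span_induction with
    | mem z hz => obtain ⟨i, rfl⟩ := hz; exact Submodule.subset_span ⟨⟨i⟩, rfl⟩
    | zero => rw [map_zero, map_zero]; exact Submodule.zero_mem _
    | add a c _ _ ha hc => rw [map_add, map_add]; exact Submodule.add_mem _ ha hc
    | smul t a _ ha => rw [Euler.germ_H0top_smul]; exact Submodule.smul_mem _ _ ha
  have hclosed : ∀ x : CP X, Submodule.span (X.presheaf.stalk x.1)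
      (Set.range fun i => E.presheaf.germ ⊤ x.1 trivial (m i)) = ⊤ := by
    intro x
    set P := vanishAt E x.1
    haveI : Mono P.ι := QCoh.mono_of_app_injective _ P.ι_app_injective
    let S := ShortComplex.mk P.ι (cokernel.π P.ι) (cokernel.condition P.ι)
    have hS : S.ShortExact := { exact := ShortComplex.exact_of_g_is_cokernel _ (cokernelIsCokernel _) }
    have hPc := Euler.isCoh_of_isFinLocFree (FinCov.isFinLocFree_of_rank (isFinLocFreeOfRank_vanishAt k hE x))
    obtain ⟨V, hV⟩ := exists_open_avoiding (Set.finite_singleton x)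
    have hsupp : CohB1.support (cokernel P.ι) ⊆ {x.1} := by
      intro z hz
      by_contra hne
      have hzV : z ∈ V := (hV z).2 fun w hw h => hne (h.symm.trans (congrArg Subtype.val hw))
      refine QCoh.notMem_support_cokernel_of_surjective _ ?_ hz
      refine (Euler.stalkLin_bijective_of_app_bijective P.ι (O := V) hzV fun T hT => ⟨P.ι_app_injective T, fun s => ?_⟩).2
      exact ⟨P.lift s (mem_vanishAt_of_notMem (fun hxT => (hV x.1).1 (hT hxT) x rfl rfl) s), rfl⟩
    have hfin : (CohB1.support (cokernel P.ι)).Finite := (Set.finite_singleton _).subset hsupp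
    have hcl : ∀ z ∈ CohB1.support (cokernel P.ι), IsClosed ({z} : Set X) := fun z hz => by
      rw [hsupp hz]; exact CurvePoints.isClosed_singleton RegCurve.dim.le x.2
    have htop : (⊤ : Submodule (X.presheaf.stalk x.1) (E.presheaf.stalk x.1)) ≤
        Submodule.span _ (Set.range fun i => E.presheaf.germ ⊤ x.1 trivial (m i)) ⊔
          IsLocalRing.maximalIdeal (X.presheaf.stalk x.1) • ⊤ := by
      intro v _
      have hex : Function.Exact (stalkLin P.ι x.1) (stalkLin (cokernel.π P.ι) x.1) :=
        (ShortComplex.ShortExact.moduleCat_exact_iff_function_exact _).1 ((OX.exact_iff S).1 hS.exact _)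
      have hker : ∀ u, stalkLin (cokernel.π P.ι) x.1 u = 0 →
          u ∈ IsLocalRing.maximalIdeal (X.presheaf.stalk x.1) • (⊤ : Submodule (X.presheaf.stalk x.1) (E.presheaf.stalk x.1)) := by
        intro u hu
        obtain ⟨p, rfl⟩ := (hex u).1 hu
        obtain ⟨U, hU, t, rfl⟩ := TopCat.Presheaf.exists_germ_eq P.obj.presheaf p
        rw [stalkLin_germ]
        exact P.ι_app_mem t hU
      obtain ⟨s, hs⟩ : ∃ s : Γ(E, ⊤), stalkLin (cokernel.π P.ι) x.1 (E.presheaf.germ ⊤ x.1 trivial s) =
          stalkLin (cokernel.π P.ι) x.1 v := by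
        obtain ⟨t, ht⟩ : ∃ t : Γ(cokernel P.ι, ⊤), (cokernel P.ι).presheaf.germ ⊤ x.1 trivial t =
            stalkLin (cokernel.π P.ι) x.1 v := by
          by_cases hx : x.1 ∈ CohB1.support (cokernel P.ι)
          · obtain ⟨t, ht⟩ := (Euler.bijective_germs _ hfin hcl).2 fun z =>
              if e : x.1 = z.1 then e ▸ stalkLin (cokernel.π P.ι) x.1 v else 0
            exact ⟨t, (congrFun ht ⟨x.1, hx⟩).trans (by simp)⟩
          · exact ⟨0, @Subsingleton.elim _ (QCoh.stalk_subsingleton_of_notMem hx) _ _⟩
        obtain ⟨q, hq⟩ := (Cohom.exact₃ (A := k) hS 0 ((ProjCoh.H0top _).symm t)).1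
          (@Subsingleton.elim _ (h x) _ _)
        refine ⟨ProjCoh.H0top E q, ?_⟩
        rw [stalkLin_germ, ← ht]
        refine congrArg _ ?_
        rw [Cohom.hhMap_apply] at hq
        exact (ProjCoh.H0top_map _ q).symm.trans ((congrArg (ProjCoh.H0top _) hq).trans (AddEquiv.apply_symm_apply _ t))
      refine Submodule.mem_sup.2 ⟨_, hglob x.1 s, v - E.presheaf.germ ⊤ x.1 trivial s, ?_, add_sub_cancel _ _⟩
      exact hker _ (by rw [map_sub, hs, sub_self])
    haveI := Euler.stalk_finite hEc x.1
    exact top_le_iff.1 (Submodule.le_of_le_smul_of_le_jacobson_bot Module.Finite.fg_top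
      (IsLocalRing.maximalIdeal_le_jacobson _) htop)
  have hspan : ∀ y : X, Submodule.span (X.presheaf.stalk y) (Set.range fun i => E.presheaf.germ ⊤ y trivial (m i)) = ⊤ := by
    intro y
    by_cases hy : y = genericPoint X
    · subst hy
      -- specialise from any closed point
      obtain ⟨P⟩ := (isFG k (X := X)).exists_place
      obtain ⟨x, -⟩ := place_surjective (k := k) (X := X) P
      refine eq_top_iff.2 fun v _ => ?_
      obtain ⟨U, hU, s, rfl⟩ := TopCat.Presheaf.exists_germ_eq E.presheaf v
      obtain ⟨T, e, hxT, he⟩ := FinCov.exists_frame_nhd_of_rank hE x.1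
      have hηT := genericPoint_mem hxT
      obtain ⟨a, ha⟩ := (he (U ⊓ T) inf_le_right).2 (E.presheaf.map (homOfLE inf_le_left).op s)
      rw [← TopCat.Presheaf.germ_res_apply E.presheaf (homOfLE (inf_le_left : U ⊓ T ≤ U)) (genericPoint X) ⟨hU, hηT⟩ s,
        ← ha, map_sum]
      refine Submodule.sum_mem _ fun j _ => ?_
      rw [germ_smul_generic, TopCat.Presheaf.germ_res_apply]
      refine Submodule.smul_mem _ _ ?_
      have hj : E.presheaf.germ T x.1 hxT (e j) ∈
          Submodule.span (X.presheaf.stalk x.1) (Set.range fun i => E.presheaf.germ ⊤ x.1 trivial (m i)) :=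
        hclosed x ▸ Submodule.mem_top
      obtain ⟨l, hl⟩ := (Submodule.mem_span_range_iff_exists_fun _).1 hj
      choose Ul hUl sl hsl using fun i => TopCat.Presheaf.exists_germ_eq X.presheaf (l i)
      let U' : X.Opens := T ⊓ ⟨⋂ i, (Ul i : Set X), isOpen_iInter_of_finite fun i => (Ul i).isOpen⟩
      have hle : ∀ i, U' ≤ Ul i := fun i z hz => Set.mem_iInter.1 hz.2 i
      have hxU' : x.1 ∈ U' := ⟨hxT, Set.mem_iInter.2 hUl⟩
      have heq : E.presheaf.germ T x.1 hxT (e j) = E.presheaf.germ U' x.1 hxU'
          (∑ i, X.presheaf.map (homOfLE (hle i)).op (sl i) • E.presheaf.map (homOfLE (le_top : U' ≤ ⊤)).op (m i)) := by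
        rw [← hl, map_sum]
        refine Finset.sum_congr rfl fun i _ => ?_
        rw [WeakAss.germ_smul, TopCat.Presheaf.germ_res_apply, TopCat.Presheaf.germ_res_apply, hsl]
      obtain ⟨W, hxW, i₁, i₂, hW⟩ := TopCat.Presheaf.germ_eq E.presheaf x.1 (U := T) (V := U') hxT hxU' _ _ heq
      have h1 := congrArg (E.presheaf.germ W (genericPoint X) (genericPoint_mem hxW)) hW
      rw [TopCat.Presheaf.germ_res_apply, TopCat.Presheaf.germ_res_apply, map_sum] at h1
      rw [h1]
      refine Submodule.sum_mem _ fun i _ => ?_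
      rw [germ_smul_generic, TopCat.Presheaf.germ_res_apply, TopCat.Presheaf.germ_res_apply]
      exact Submodule.smul_mem _ _ (Submodule.subset_span ⟨i, rfl⟩)
    · exact hclosed ⟨y, hy⟩
  obtain ⟨G, -⟩ := FTDesc.exists_generatingSections E m hspan
  exact ⟨G.I, G.π, G.epi⟩

end GrothLib.CurveRR
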