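import Groth.Agent.Lib.CurveRR.Degree
import Groth.Agent.Lib.Cohom.LinearLES
import Groth.Agent.Lib.FunFld.RR
import Groth.Agent.Lib.FunFld.Conseq

/-!
# Vanishing of the first cohomology of large divisors, and Riemann-Roch
-/

set_option linter.style.haveILetI false

universe u

open CategoryTheory CategoryTheory.Limits AlgebraicGeometry TopologicalSpace Opposite WithZero Abelian
open _root_.FunFld (Place Divisor)
open GrothLib.ProjCoh (ratFun val genericPoint_mem)
open GrothLib.QCoh (stalkLin)

namespace GrothLib.CurveRR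

theorem hhDelta_natural {X : Scheme.{u}} {A : Type u} [CommRing A] [X.Over (Spec (CommRingCat.of A))]
    {S T : ShortComplex X.Modules} (hS : S.ShortExact) (hT : T.ShortExact) (φ : S ⟶ T) (n : ℕ)
    (x : Coh.HH X S.X₃ n) :
    Cohom.hhMap A φ.τ₁ (n + 1) (Cohom.hhDelta A hS n x) = Cohom.hhDelta A hT n (Cohom.hhMap A φ.τ₃ n x) := by
  have key := (QCoh.toAbFun_map_shortExact S hS).extClass_naturality (QCoh.toAbFun_map_shortExact T hT)
    ((QCoh.toAbFun X).mapShortComplex.map φ)
  change ((show Ext.{u} _ (S.map (QCoh.toAbFun X)).X₃ n from x).comp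
      (QCoh.toAbFun_map_shortExact S hS).extClass rfl).comp
      (Ext.mk₀ ((QCoh.toAbFun X).mapShortComplex.map φ).τ₁) (add_zero _) =
    ((show Ext.{u} _ (S.map (QCoh.toAbFun X)).X₃ n from x).comp
      (Ext.mk₀ ((QCoh.toAbFun X).mapShortComplex.map φ).τ₃) (add_zero n)).comp _ rfl
  rw [Ext.comp_assoc_of_second_deg_zero, Ext.comp_assoc_of_third_deg_zero]
  exact congrArg (fun e => (show Ext.{u} _ (S.map (QCoh.toAbFun X)).X₃ n from x).comp e rfl) key

theorem isFlasque_ratFun (X : Scheme.{u}) [IsIntegral X] :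
    TopCat.Sheaf.IsFlasque (X := X.carrier) (Coh.toAb (ratFun X)) := by
  classical
  refine ⟨fun {U V} i => (AddCommGrpCat.epi_iff_surjective _).2 fun s => ?_⟩
  obtain ⟨U⟩ := U
  obtain ⟨V⟩ := V
  by_cases h : genericPoint X ∈ V
  · exact ⟨(fun _ => val (show Γ(ratFun X, V) from s) h : Γ(ratFun X, U)), ProjCoh.val_ext fun hV => rfl⟩
  · exact ⟨0, ProjCoh.val_ext fun hV => absurd hV h⟩

variable (k : Type u) [Field k] {X : Scheme.{u}} [IsIntegral X] [RegCurve X]
  [X.Over (Spec (CommRingCat.of k))]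

omit [RegCurve X] in
theorem subsingleton_H_ratFun (n : ℕ) : Subsingleton (Coh.HH X (ratFun X) (n + 1)) := by
  have := isFlasque_ratFun X
  exact SheafCoh.flasque_H_subsingleton (X := X.carrier) (Coh.toAb (ratFun X)) n

variable [IsProper (X ↘ Spec (CommRingCat.of k))]

/-- The sequence `0 → O(D) → K → K/O(D) → 0`. -/
noncomputable def seqD (D : Divisor k X.functionField) : ShortComplex X.Modules :=
  ShortComplex.mk (oDData k D).ι (cokernel.π _) (cokernel.condition _)

theorem seqD_shortExact (D : Divisor k X.functionField) : (seqD k D).ShortExact :=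
  have : Mono (oDData k D).ι := QCoh.mono_of_app_injective _ fun V => (oDData k D).ι_app_injective V
  { exact := ShortComplex.exact_of_g_is_cokernel _ (cokernelIsCokernel _)
    mono_f := this
    epi_g := inferInstanceAs (Epi (cokernel.π _)) }

variable {k}

theorem incl_comp_ι {D E : Divisor k X.functionField} (h : D ≤ E) :
    incl h ≫ (oDData k E).ι = (oDData k D).ι := rfl

/-- The map of sequences for `D ≤ E`. -/
noncomputable def seqMap {D E : Divisor k X.functionField} (h : D ≤ E) : seqD k D ⟶ seqD k E where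
  τ₁ := incl h
  τ₂ := 𝟙 _
  τ₃ := cokernel.map (oDData k D).ι (oDData k E).ι (incl h) (𝟙 _) (incl_comp_ι h).symm
  comm₁₂ := by simp [seqD, incl_comp_ι]
  comm₂₃ := by simp [seqD]

theorem incl_comp_incl {D E F : Divisor k X.functionField} (h₁ : D ≤ E) (h₂ : E ≤ F) :
    incl h₁ ≫ incl h₂ = incl (h₁.trans h₂) := rfl

/-- A class in `H¹(O(D))` dies in some `O(E)`. -/
theorem exists_kill (D : Divisor k X.functionField) (ξ : Coh.HH X (oD k D) 1) :
    ∃ (E : Divisor k X.functionField) (h : D ≤ E), Cohom.hhMap k (incl h) 1 ξ = 0 := by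
  classical
  haveI := Euler.isNoetherian_of_proper (X := X) k
  have h0 : Cohom.hhMap k (oDData k D).ι 1 ξ = 0 :=
    @Subsingleton.elim _ (subsingleton_H_ratFun (X := X) 0) _ _
  obtain ⟨q, rfl⟩ := (Cohom.exact₁ (A := k) (seqD_shortExact k D) 0 ξ).1 h0
  set π := cokernel.π (oDData k D).ι
  set s : Γ(cokernel (oDData k D).ι, ⊤) := ProjCoh.H0top _ q
  have hloc : ∀ z : X, ∃ (U : X.Opens) (t : Γ(ratFun X, U)), z ∈ U ∧
      π.app U t = (cokernel (oDData k D).ι).presheaf.map (homOfLE le_top).op s := by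
    intro z
    obtain ⟨v, hv⟩ := QCoh.stalkLin_surjective π z
      ((cokernel (oDData k D).ι).presheaf.germ ⊤ z trivial s)
    obtain ⟨U, hU, t, rfl⟩ := TopCat.Presheaf.exists_germ_eq (ratFun X).presheaf v
    rw [QCoh.stalkLin_germ] at hv
    obtain ⟨W, hW, i₁, i₂, heq⟩ := TopCat.Presheaf.germ_eq (cokernel (oDData k D).ι).presheaf z (U := U) (V := ⊤) hU trivial _ _ hv
    refine ⟨W, (ratFun X).presheaf.map i₁.op t, hW, ?_⟩
    refine ((ConcreteCategory.congr_hom (π.mapPresheaf.naturality i₁.op) t).trans ?_)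
    exact heq
  choose U t hzU ht using hloc
  obtain ⟨F, hF⟩ := isCompact_univ.elim_finite_subcover (fun z => (U z : Set X)) (fun z => (U z).isOpen)
    fun z _ => Set.mem_iUnion.2 ⟨z, hzU z⟩
  let f : X → X.functionField := fun z => val (t z) (genericPoint_mem (hzU z))
  let pole : X.functionField → Divisor k X.functionField := fun g =>
    Finsupp.ofSupportFinite (fun P => max 0 (-P.ord g))
      (((isFG k).finite_support_ord g).subset fun P hP h => hP (by simp [h]))
  have hpole0 : ∀ g, (0 : Divisor k X.functionField) ≤ pole g := fun g P => le_max_left _ _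
  have hpole : ∀ (g : X.functionField) (P : Place k X.functionField), P.1 g ≤ exp (pole g P) := by
    intro g P
    rcases eq_or_ne g 0 with rfl | hg
    · rw [map_zero]; exact zero_le
    · exact (FunFld.val_le_exp_iff P hg _).2 (by
        have : pole g P = max 0 (-P.ord g) := rfl
        rw [this]; omega)
  let E : Divisor k X.functionField := (D ⊔ 0) + ∑ z ∈ F, pole (f z)
  have hsum0 : (0 : Divisor k X.functionField) ≤ ∑ z ∈ F, pole (f z) := Finset.sum_nonneg fun z _ => hpole0 _
  have hDE : D ≤ E := (le_sup_left : D ≤ D ⊔ 0).trans (le_add_of_nonneg_right hsum0)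
  refine ⟨E, hDE, ?_⟩
  refine (hhDelta_natural (seqD_shortExact k D) (seqD_shortExact k E) (seqMap hDE) 0 q).trans ?_
  suffices hz : Cohom.hhMap k (seqMap hDE).τ₃ 0 q = 0 from (congrArg _ hz).trans (map_zero _)
  apply (ProjCoh.H0top _).injective
  rw [Cohom.hhMap_apply]
  refine (ProjCoh.H0top_map _ q).trans ?_
  rw [map_zero]
  refine QCoh.section_eq_zero_of_germ _ _ fun z _ => ?_
  obtain ⟨w, hwF, hzw⟩ := Set.mem_iUnion₂.1 (hF (Set.mem_univ z))
  have hb : (t w) ∈ (oDData k E).sec (U w) := fun P hP => by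
    refine ((hpole (f w) (place k P)).trans (exp_le_exp.2 ?_))
    have h1 : pole (f w) (place k P) ≤ (∑ z ∈ F, pole (f z)) (place k P) := by
      rw [Finsupp.finsetSum_apply]
      exact Finset.single_le_sum (fun z _ => hpole0 (f z) (place k P)) hwF
    have h2 : (0 : ℤ) ≤ (D ⊔ 0 : Divisor k X.functionField) (place k P) := (le_sup_right : (0 : Divisor k X.functionField) ≤ D ⊔ 0) _
    show _ ≤ (D ⊔ 0) (place k P) + _
    omega
  let τ : cokernel (oDData k D).ι ⟶ cokernel (oDData k E).ι := (seqMap hDE).τ₃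
  have h3 : π ≫ τ = cokernel.π (oDData k E).ι := by simp [π, τ, seqMap, cokernel.map]
  show (cokernel (oDData k E).ι).presheaf.germ ⊤ z trivial (τ.app ⊤ s) = 0
  rw [← QCoh.stalkLin_germ τ (U := ⊤) trivial s]
  rw [← TopCat.Presheaf.germ_res_apply (cokernel (oDData k D).ι).presheaf (homOfLE (le_top : U w ≤ ⊤)) z hzw s]
  rw [← ht w, ← QCoh.stalkLin_germ π hzw, ← QCoh.stalkLin_comp, h3, QCoh.stalkLin_germ]
  rw [← (oDData k E).ι_app_lift (t w) hb, ← QCoh.stalkLin_germ (cokernel.π (oDData k E).ι) hzw,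
    ← QCoh.stalkLin_germ (oDData k E).ι hzw, ← QCoh.stalkLin_comp, cokernel.condition]
  exact LinearMap.congr_fun (congrArg ModuleCat.Hom.hom ((OX.stalk z).map_zero (oD k E) _)) _

/-- Larger divisors have smaller first cohomology. -/
theorem surjective_H1_incl {D E : Divisor k X.functionField} (h : D ≤ E) :
    Function.Surjective (Cohom.hhMap k (incl h) 1) := by
  intro y
  let S := ShortComplex.mk (incl h) (cokernel.π _) (cokernel.condition _)
  have hS : S.ShortExact := { exact := ShortComplex.exact_of_g_is_cokernel _ (cokernelIsCokernel _) }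
  refine (Cohom.exact₂ (A := k) hS 1 y).1 ?_
  have hη : Function.Surjective (stalkLin (incl h) (genericPoint X)) := by
    intro v
    obtain ⟨U, hU, t, rfl⟩ := TopCat.Presheaf.exists_germ_eq (oD k E).presheaf v
    obtain ⟨V, hV⟩ := exists_open_avoiding ((finite_bad k D (oval k t hU)).union (finite_bad k E (oval k t hU)))
    have hηV : genericPoint X ∈ V := (hV _).2 fun z _ => z.2
    refine ⟨(oD k D).presheaf.germ (U ⊓ V) _ ⟨hU, hηV⟩ (mkSec k D (U ⊓ V) (oval k t hU) fun P hP => ?_), ?_⟩
    · have h1 := fun hb => (hV P.1).1 hP.2 P hb rfl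
      simp only [Set.mem_union, Set.mem_setOf_eq, not_or, not_not] at h1
      have hD : D (place k P) = 0 := by by_contra hc; exact h1 (Or.inl (Or.inl hc))
      have hE : E (place k P) = 0 := by by_contra hc; exact h1 (Or.inr (Or.inl hc))
      have := oval_bound t P hP.1
      rwa [hE, ← hD] at this
    · rw [QCoh.stalkLin_germ, ← TopCat.Presheaf.germ_res_apply (oD k E).presheaf (homOfLE (inf_le_left : U ⊓ V ≤ U)) (genericPoint X) ⟨hU, hηV⟩ t]
      congr 1
  obtain ⟨hfin, hcl⟩ := Euler.finite_support_of_notMem_genericPoint k RegCurve.dim.le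
    (QCoh.isCoh_cokernel _ (isCoh_oD k D) (isCoh_oD k E)) (QCoh.notMem_support_cokernel_of_surjective _ hη)
  exact @Subsingleton.elim _ (Euler.subsingleton_HH_of_finite_support _ hfin hcl 1 le_rfl) _ _

theorem h1_antitone {D E : Divisor k X.functionField} (h : D ≤ E) :
    Module.finrank k (Coh.HH X (oD k E) 1) ≤ Module.finrank k (Coh.HH X (oD k D) 1) :=
  have := Euler.finiteDimensional_HH k (isCoh_oD k D) 1
  LinearMap.finrank_le_finrank_of_surjective (surjective_H1_incl h)

/-- Above every divisor there is one without first cohomology. -/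
theorem exists_ge_H1_eq_zero (D : Divisor k X.functionField) :
    ∃ E, D ≤ E ∧ ∀ E', E ≤ E' → Subsingleton (Coh.HH X (oD k E') 1) := by
  classical
  haveI := Euler.finiteDimensional_HH k (isCoh_oD k D) 1
  let b := Module.finBasis k (Coh.HH X (oD k D) 1)
  choose Ei hDi hEi using fun i => exists_kill D (b i)
  obtain ⟨E, hE, hEi'⟩ : ∃ E, D ≤ E ∧ ∀ i, Ei i ≤ E :=
    ⟨Finset.univ.sup' (Finset.univ_nonempty (α := Option (Fin (Module.finrank k (Coh.HH X (oD k D) 1)))))
        (fun o => o.elim D Ei), Finset.le_sup' (fun o => o.elim D Ei) (Finset.mem_univ none),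
      fun i => Finset.le_sup' (fun o => o.elim D Ei) (Finset.mem_univ (some i))⟩
  refine ⟨E, hE, fun E' hE' => subsingleton_of_forall_eq 0 fun y => ?_⟩
  obtain ⟨x, rfl⟩ := surjective_H1_incl (hE.trans hE') y
  have hb : Cohom.hhMap k (incl (hE.trans hE')) 1 = 0 := by
    refine b.ext fun i => ?_
    rw [← incl_comp_incl (hDi i) ((hEi' i).trans hE'), Euler.hhMap_comp, hEi, map_zero, LinearMap.zero_apply]
  rw [hb, LinearMap.zero_apply]

variable (k)

/-- Riemann-Roch: the Euler characteristic of the structure sheaf is `1 - g`. -/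
theorem euler_structure_eq (hK : _root_.FunFld.IsFunctionField k X.functionField) :
    Curv2.euler k X (Coh.structureModule X) = 1 - (_root_.FunFld.genus k X.functionField : ℤ) := by
  obtain ⟨P⟩ := (FunFld.IsFG.of_isFunctionField hK).exists_place
  have hP := (FunFld.IsFG.of_isFunctionField hK).deg_pos P
  obtain ⟨E, h0E, hE⟩ := exists_ge_H1_eq_zero (Finsupp.single P (2 * (_root_.FunFld.genus k X.functionField : ℤ)))
  haveI := (isCoh_oD k E).1
  have h1 := Euler.euler_eq_sub k RegCurve.dim.le (oD k E)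
  rw [euler_oD, finrank_H0_oD, @Module.finrank_zero_of_subsingleton _ _ _ _ _ _ (hE E le_rfl)] at h1
  have hdeg : 2 * (_root_.FunFld.genus k X.functionField : ℤ) ≤ E.deg := by
    refine le_trans ?_ (FunFld.deg_mono h0E)
    rw [FunFld.deg_eq_degHom, Finsupp.sum_single_index (zero_mul _)]
    nlinarith
  have h2 := FunFld.ell_eq_of_deg_ge hK (D := E) (by omega)
  omega

/-- Riemann-Roch for `O(D)`: the first cohomology has the dimension of `L(C - D)`. -/
theorem finrank_H1_oD (hK : _root_.FunFld.IsFunctionField k X.functionField) {C : Divisor k X.functionField}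
    (hC : _root_.FunFld.IsCanonical k X.functionField C) (D : Divisor k X.functionField) :
    Module.finrank k (Coh.HH X (oD k D) 1) = _root_.FunFld.ell (C - D) := by
  haveI := (isCoh_oD k D).1
  have h1 := Euler.euler_eq_sub k RegCurve.dim.le (oD k D)
  rw [euler_oD, finrank_H0_oD, euler_structure_eq k hK] at h1
  have h2 := FunFld.riemann_roch' hK hC D
  omega

end GrothLib.CurveRR
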