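import Groth.Agent.Lib.CurveRR.Places
import Groth.Agent.Lib.ProjCoh.Twist
import Groth.Agent.Lib.ProjCoh.Generic
import Groth.Agent.Lib.InvExt.Gen
import Groth.Agent.Lib.Euler.Section
import Groth.Agent.Lib.Euler.Torsion

/-!
# The invertible sheaf of a divisor on a regular proper curve
-/

set_option linter.style.haveILetI false

universe u

open CategoryTheory CategoryTheory.Limits AlgebraicGeometry TopologicalSpace Opposite WithZero IsLocalRing
open _root_.FunFld (Place Divisor)
open GrothLib.ProjCoh (ratFun val genericPoint_mem)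

namespace GrothLib.CurveRR

variable (k : Type u) [Field k] {X : Scheme.{u}} [IsIntegral X] [RegCurve X]
  [X.Over (Spec (CommRingCat.of k))] [IsProper (X ↘ Spec (CommRingCat.of k))]

omit [RegCurve X] [IsProper (X ↘ Spec (CommRingCat.of k))] in
theorem germ_generic {V : X.Opens} {x : X} (hx : x ∈ V) (r : Γ(X, V)) :
    X.presheaf.germ V (genericPoint X) (genericPoint_mem hx) r =
      algebraMap (X.presheaf.stalk x) X.functionField (X.presheaf.germ V x hx r) :=
  (ConcreteCategory.congr_hom (X.presheaf.germ_stalkSpecializes hx _) r).symm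

theorem place_germ_le_one (x : CP X) {V : X.Opens} (hx : x.1 ∈ V) (r : Γ(X, V)) :
    (place k x).1 (X.presheaf.germ V (genericPoint X) (genericPoint_mem hx) r) ≤ 1 := by
  rw [germ_generic hx]
  exact IsDedekindDomain.HeightOneSpectrum.valuation_le_one _ _

/-- Rational functions with poles bounded by a divisor. -/
noncomputable def oDData (D : Divisor k X.functionField) : QCoh.SubData (ratFun X) where
  sec V :=
    { carrier := {s | ∀ (x : CP X) (hx : x.1 ∈ V), (place k x).1 (val s (genericPoint_mem hx)) ≤ exp (D (place k x))}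
      add_mem' := fun {s t} hs ht x hx => by
        rw [ProjCoh.val_add]
        exact ((place k x).1.map_add _ _).trans (max_le (hs x hx) (ht x hx))
      zero_mem' := fun x hx => by rw [ProjCoh.val_zero, map_zero]; exact zero_le
      smul_mem' := fun r s hs x hx => by
        rw [ProjCoh.val_smul, map_mul]
        exact (mul_le_mul' (place_germ_le_one k x hx r) (hs x hx)).trans_eq (one_mul _) }
  map_mem i s hs x hx := hs x (i.le hx)
  locality {U} s h x hx := by
    obtain ⟨V, i, hxV, hV⟩ := h x.1 hx
    exact hV x hxV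

/-- The sheaf `O(D)`. -/
noncomputable abbrev oD (D : Divisor k X.functionField) : X.Modules := (oDData k D).obj

/-- The rational function of a section of `O(D)`. -/
noncomputable def oval {D : Divisor k X.functionField} {V : X.Opens} (s : Γ(oD k D, V))
    (hV : genericPoint X ∈ V) : X.functionField := val ((oDData k D).ι.app V s) hV

variable {k}

theorem oval_ext {D : Divisor k X.functionField} {V : X.Opens} {s t : Γ(oD k D, V)}
    (h : ∀ hV, oval k s hV = oval k t hV) : s = t :=
  (oDData k D).ι_app_injective V (ProjCoh.val_ext h)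

theorem oval_map {D : Divisor k X.functionField} {U V : X.Opens} (i : V ⟶ U) (s : Γ(oD k D, U))
    (hV : genericPoint X ∈ V) : oval k ((oD k D).presheaf.map i.op s) hV = oval k s (i.le hV) := rfl

theorem oval_smul {D : Divisor k X.functionField} {V : X.Opens} (r : Γ(X, V)) (s : Γ(oD k D, V))
    (hV : genericPoint X ∈ V) :
    oval k (r • s) hV = X.presheaf.germ V _ hV r * oval k s hV := rfl

theorem oval_add {D : Divisor k X.functionField} {V : X.Opens} (s t : Γ(oD k D, V))
    (hV : genericPoint X ∈ V) : oval k (s + t) hV = oval k s hV + oval k t hV := rfl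

theorem oval_bound {D : Divisor k X.functionField} {V : X.Opens} (s : Γ(oD k D, V)) (x : CP X) (hx : x.1 ∈ V) :
    (place k x).1 (oval k s (genericPoint_mem hx)) ≤ exp (D (place k x)) :=
  (oDData k D).ι_app_mem s x hx

variable (k) in
/-- A bounded rational function gives a section. -/
noncomputable def mkSec (D : Divisor k X.functionField) (V : X.Opens) (f : X.functionField)
    (hf : ∀ x : CP X, x.1 ∈ V → (place k x).1 f ≤ exp (D (place k x))) : Γ(oD k D, V) :=
  (oDData k D).lift (fun _ => f) fun x hx => hf x hx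

@[simp] theorem oval_mkSec {D : Divisor k X.functionField} {V : X.Opens} (f : X.functionField)
    (hf : ∀ x : CP X, x.1 ∈ V → (place k x).1 f ≤ exp (D (place k x))) (hV : genericPoint X ∈ V) :
    oval k (mkSec k D V f hf) hV = f := rfl

variable (k)

/-- A rational function without poles on an open set is regular there. -/
theorem exists_section_of_regular {W : X.Opens} (hη : genericPoint X ∈ W) (f : X.functionField)
    (hf : ∀ x : CP X, x.1 ∈ W → (place k x).1 f ≤ 1) :
    ∃ a : Γ(X, W), X.presheaf.germ W _ hη a = f := by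
  have hloc : ∀ x : W, ∃ (T : X.Opens) (hxT : x.1 ∈ T) (a : Γ(X, T)),
      X.presheaf.germ T _ (genericPoint_mem hxT) a = f := by
    intro x
    by_cases hx : x.1 = genericPoint X
    · obtain ⟨T, hT, a, ha⟩ := TopCat.Presheaf.exists_germ_eq X.presheaf f
      exact ⟨T, hx ▸ hT, a, ha⟩
    · obtain ⟨r, hr⟩ := (mem_place_O k (x := ⟨x.1, hx⟩)).1 (hf ⟨x.1, hx⟩ x.2)
      obtain ⟨T, hT, a, ha⟩ := TopCat.Presheaf.exists_germ_eq X.presheaf r
      exact ⟨T, hT, a, by rw [germ_generic hT, ha]; exact hr⟩
  choose T hxT a ha using hloc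
  let U : W → X.Opens := fun x => T x ⊓ W
  let sf : ∀ x : W, Γ(X, U x) := fun x => X.presheaf.map (homOfLE inf_le_left).op (a x)
  have e : ∀ z : W, X.presheaf.germ (U z) _ ⟨genericPoint_mem (hxT z), hη⟩ (sf z) = f := fun z =>
    (TopCat.Presheaf.germ_res_apply _ _ _ _ _).trans (ha z)
  have hc : TopCat.Presheaf.IsCompatible (C := CommRingCat.{u}) X.presheaf U sf := by
    intro x y
    have hη' : genericPoint X ∈ U x ⊓ U y :=
      ⟨⟨genericPoint_mem (hxT x), hη⟩, ⟨genericPoint_mem (hxT y), hη⟩⟩
    haveI : Nonempty (U x ⊓ U y : X.Opens) := ⟨⟨_, hη'⟩⟩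
    refine germ_injective_of_isIntegral X (genericPoint X) hη' ?_
    exact (TopCat.Presheaf.germ_res_apply X.presheaf _ _ hη' (sf x)).trans
      ((e x).trans ((e y).symm.trans (TopCat.Presheaf.germ_res_apply X.presheaf _ _ hη' (sf y)).symm))
  have hsup : iSup U = W := le_antisymm (iSup_le fun x => inf_le_right) fun x hx =>
    Opens.mem_iSup.2 ⟨⟨x, hx⟩, hxT ⟨x, hx⟩, hx⟩
  obtain ⟨g, hg, -⟩ := X.sheaf.existsUnique_gluing U sf hc
  refine ⟨X.presheaf.map (homOfLE hsup.ge).op g, ?_⟩
  rw [TopCat.Presheaf.germ_res_apply, ← TopCat.Presheaf.germ_res_apply X.presheaf (homOfLE (le_iSup U ⟨_, hη⟩))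
    (genericPoint X) (⟨hxT ⟨_, hη⟩, hη⟩ : genericPoint X ∈ U ⟨_, hη⟩) g]
  exact (congrArg _ (hg ⟨_, hη⟩)).trans (e ⟨_, hη⟩)

/-- A rational function of the exact order prescribed by `D` at all points of `V` generates. -/
theorem isGen_mkSec (D : Divisor k X.functionField) (V : X.Opens) (g : X.functionField) (hg0 : g ≠ 0)
    (hg : ∀ x : CP X, x.1 ∈ V → (place k x).1 g = exp (D (place k x))) :
    InvExt.IsGen (oD k D) V (mkSec k D V g fun x hx => (hg x hx).le) := by
  intro W hW
  constructor
  · intro c d hcd
    by_cases hη : genericPoint X ∈ W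
    · haveI : Nonempty W := ⟨⟨_, hη⟩⟩
      refine germ_injective_of_isIntegral X (genericPoint X) hη ?_
      have := congrArg (fun s => oval k s hη) hcd
      dsimp only at this
      rw [oval_smul, oval_smul] at this
      exact mul_right_cancel₀ hg0 this
    · refine TopCat.Presheaf.section_ext X.sheaf W c d fun y hy => (hη (genericPoint_mem hy)).elim
  · intro m
    by_cases hη : genericPoint X ∈ W
    · obtain ⟨a, ha⟩ := exists_section_of_regular k hη (oval k m hη / g) fun x hx => by
        rw [map_div₀, hg x (hW hx)]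
        exact div_le_one_of_le₀ (oval_bound m x hx) zero_le
      refine ⟨a, oval_ext fun hV => ?_⟩
      dsimp only
      rw [oval_smul, ha]
      exact div_mul_cancel₀ _ hg0
    · exact ⟨0, oval_ext fun hV => (hη hV).elim⟩

/-- The points where `D` or the order of a function is nontrivial form a finite set. -/
theorem finite_bad (D : Divisor k X.functionField) (g : X.functionField) :
    {x : CP X | D (place k x) ≠ 0 ∨ (place k x).ord g ≠ 0}.Finite := by
  refine (Set.Finite.preimage (place_injective (k := k)).injOn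
    (D.finite_support.union ((isFG k).finite_support_ord g))).subset ?_
  rintro x (h | h)
  · exact Or.inl h
  · exact Or.inr h

/-- Removing finitely many closed points from the curve. -/
theorem exists_open_avoiding {S : Set (CP X)} (hS : S.Finite) :
    ∃ V : X.Opens, ∀ x : X, x ∈ V ↔ ∀ z ∈ S, z.1 ≠ x := by
  refine ⟨⟨(Subtype.val '' S)ᶜ, ?_⟩, fun x => ?_⟩
  · rw [isOpen_compl_iff, ← Set.biUnion_of_singleton (Subtype.val '' S)]
    refine (hS.image _).isClosed_biUnion fun y hy => ?_
    obtain ⟨z, -, rfl⟩ := hy
    exact CurvePoints.isClosed_singleton RegCurve.dim.le z.2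
  · exact ⟨fun h z hz e => h ⟨z, hz, e⟩, fun h ⟨z, hz, e⟩ => h z hz e⟩

/-- `O(D)` has local generators, with value of the prescribed order at a given point. -/
theorem exists_gen (D : Divisor k X.functionField) (x : X) :
    ∃ (V : X.Opens) (g : X.functionField), x ∈ V ∧ g ≠ 0 ∧
      ∀ z : CP X, z.1 ∈ V → (place k z).1 g = exp (D (place k z)) := by
  obtain ⟨g, hg0, hgx⟩ : ∃ g : X.functionField, g ≠ 0 ∧
      ∀ z : CP X, z.1 = x → (place k z).1 g = exp (D (place k z)) := by
    by_cases hx : x = genericPoint X
    · exact ⟨1, one_ne_zero, fun z hz => (z.2 (hz.trans hx)).elim⟩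
    · obtain ⟨g, hg0, hg⟩ := FunFld.exists_val_eq (place k (⟨x, hx⟩ : CP X)) (D (place k ⟨x, hx⟩))
      exact ⟨g, hg0, fun z hz => by obtain rfl : z = ⟨x, hx⟩ := Subtype.ext hz; exact hg⟩
  obtain ⟨V, hV⟩ := exists_open_avoiding ((finite_bad k D g).sep fun z => z.1 ≠ x)
  refine ⟨V, g, (hV x).2 fun z hz => hz.2, hg0, fun z hz => ?_⟩
  by_cases hzx : z.1 = x
  · exact hgx z hzx
  · have := (hV z.1).1 hz z
    simp only [Set.mem_setOf_eq, ne_eq, not_true_eq_false, imp_false, not_and, not_not] at this
    have h2 : D (place k z) = 0 ∧ (place k z).ord g = 0 := by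
      by_contra h
      exact hzx (this (by tauto))
    rw [FunFld.val_eq (place k z) hg0, h2.1, h2.2, neg_zero]

theorem isInvertible_oD (D : Divisor k X.functionField) : PicF.IsInvertible (oD k D) :=
  InvExt.isInvertible_of_gens fun x => by
    obtain ⟨V, g, hx, hg0, hg⟩ := exists_gen k D x
    exact ⟨V, _, hx, isGen_mkSec k D V g hg0 hg⟩

theorem isCoh_oD (D : Divisor k X.functionField) : Coh.IsCoh (oD k D) :=
  Euler.isCoh_of_isInvertible (isInvertible_oD k D)

theorem nonempty_iso_oD_zero : Nonempty (Coh.structureModule X ≅ oD k (0 : Divisor k X.functionField)) := by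
  have hg : ∀ x : CP X, x.1 ∈ (⊤ : X.Opens) → (place k x).1 (1 : X.functionField) =
      exp ((0 : Divisor k X.functionField) (place k x)) := fun x _ => by simp
  let e := mkSec k (0 : Divisor k X.functionField) ⊤ 1 fun x hx => (hg x hx).le
  have he := isGen_mkSec k (0 : Divisor k X.functionField) ⊤ 1 one_ne_zero hg
  have hbij : ∀ T : X.Opens, Function.Bijective ((FinCov.homOfSection e).app T) := fun T => by
    have : ((FinCov.homOfSection e).app T : Γ(Coh.structureModule X, T) → Γ(oD k (0 : Divisor k X.functionField), T)) =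
        fun a => (show Γ(X, T) from a) • InvExt.mres (oD k (0 : Divisor k X.functionField)) (le_top : T ≤ ⊤) e :=
      funext fun a => Euler.homOfSection_app e T a
    rw [this]
    exact he T le_top
  haveI : Mono (FinCov.homOfSection e) := QCoh.mono_of_app_injective _ fun T => (hbij T).1
  haveI : Epi (FinCov.homOfSection e) := by
    refine (OX.epi_iff _).2 fun x => ?_
    exact (ModuleCat.epi_iff_surjective _).2 (Euler.stalkLin_bijective_of_app_bijective _ (show x ∈ (⊤ : X.Opens) from trivial) fun T _ => hbij T).2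
  haveI := isIso_of_mono_of_epi (FinCov.homOfSection e)
  exact ⟨asIso (FinCov.homOfSection e)⟩

variable {k}

/-- The inclusion `O(D) ⟶ O(E)`. -/
noncomputable def incl {D E : Divisor k X.functionField} (h : D ≤ E) : oD k D ⟶ oD k E :=
  ⟨PresheafOfModules.homMk
    { app := fun V => AddCommGrpCat.ofHom
        { toFun := fun s => (oDData k E).lift ((oDData k D).ι.app V.unop s) fun x hx =>
            ((oDData k D).ι_app_mem s x hx).trans (exp_le_exp.2 (h _))
          map_zero' := rfl
          map_add' := fun _ _ => rfl }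
      naturality := fun _ _ _ => rfl } fun _ _ _ => rfl⟩

theorem oval_incl {D E : Divisor k X.functionField} (h : D ≤ E) {V : X.Opens} (s : Γ(oD k D, V))
    (hV : genericPoint X ∈ V) : oval k ((incl h).app V s) hV = oval k s hV := rfl

instance mono_incl {D E : Divisor k X.functionField} (h : D ≤ E) : Mono (incl h) :=
  QCoh.mono_of_app_injective _ fun V s t hst => oval_ext fun hV => by
    rw [← oval_incl h s hV, hst, oval_incl]

variable (k)

omit [RegCurve X] [IsProper (X ↘ Spec (CommRingCat.of k))] in
theorem germ_toGlobal (c : k) :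
    X.presheaf.germ ⊤ (genericPoint X) trivial (Coh.toGlobal (X ↘ Spec (CommRingCat.of k)) c) =
      algebraMap k X.functionField c := rfl

/-- Global sections of `O(D)` are the space `L(D)`. -/
noncomputable def H0equiv (D : Divisor k X.functionField) : Coh.HH X (oD k D) 0 ≃ₗ[k] _root_.FunFld.L D :=
  LinearEquiv.ofBijective
    { toFun := fun h => (⟨oval k (ProjCoh.H0top (oD k D) h) trivial, fun P => by
        obtain ⟨x, rfl⟩ := place_surjective (k := k) (X := X) P
        exact oval_bound (V := ⊤) _ x trivial⟩ : _root_.FunFld.L D)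
      map_add' := fun a b => Subtype.ext (by
        show oval k (ProjCoh.H0top (oD k D) (a + b)) _ = oval k (ProjCoh.H0top (oD k D) a) _ + oval k (ProjCoh.H0top (oD k D) b) _
        rw [map_add, oval_add])
      map_smul' := fun c a => Subtype.ext (by
        show oval k (ProjCoh.H0top (oD k D) (c • a)) _ = c • oval k (ProjCoh.H0top (oD k D) a) _
        rw [ProjCoh.H0top_smul, oval_smul, Algebra.smul_def, germ_toGlobal]) }
    ⟨fun a b hab => (ProjCoh.H0top (oD k D)).injective (oval_ext fun _ => congrArg Subtype.val hab),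
     fun f => ⟨(ProjCoh.H0top (oD k D)).symm (mkSec k D ⊤ f.1 fun x _ => f.2 (place k x)),
       Subtype.ext (by
        show oval k (ProjCoh.H0top (oD k D) ((ProjCoh.H0top (oD k D)).symm _)) _ = f.1
        rw [AddEquiv.apply_symm_apply]
        exact oval_mkSec _ _ _)⟩⟩

theorem finrank_H0_oD (D : Divisor k X.functionField) :
    Module.finrank k (Coh.HH X (oD k D) 0) = _root_.FunFld.ell D :=
  (H0equiv k D).finrank_eq

end GrothLib.CurveRR
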