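import Groth.Agent.Lib.CurveRR.FiniteField
import Groth.Agent.Lib.FunFld.Schmidt

/-!
Isomorphism classes of invertible modules and divisor classes.
-/

set_option autoImplicit false
set_option linter.style.haveILetI false

universe u

open CategoryTheory AlgebraicGeometry TopologicalSpace WithZero
open _root_.FunFld (Place Divisor)

namespace GrothLib.CurveRR

theorem cl_eq_cl_iff {Y : Scheme.{u}} (L L' : Y.Modules) : PicF.cl L = PicF.cl L' ↔ Nonempty (L ≅ L') := by
  refine ⟨fun h => ?_, fun h => Quot.sound h⟩
  have := Quot.eqvGen_exact h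
  clear h
  induction this with
  | rel a b h => exact h
  | refl a => exact ⟨Iso.refl a⟩
  | symm a b _ ih => exact ⟨ih.some.symm⟩
  | trans a b c _ _ ih ih' => exact ⟨ih.some ≪≫ ih'.some⟩

variable (k : Type u) [Field k] {X : Scheme.{u}} [IsIntegral X] [RegCurve X]
  [X.Over (Spec (CommRingCat.of k))] [IsProper (X ↘ Spec (CommRingCat.of k))]

/-- Multiplication by a rational function. -/
noncomputable def mulHom {D E : Divisor k X.functionField} (f : X.functionField)
    (h : ∀ x : CP X, exp (D (place k x)) * (place k x).1 f ≤ exp (E (place k x))) : oD k D ⟶ oD k E :=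
  ⟨PresheafOfModules.homMk
    { app := fun V => AddCommGrpCat.ofHom
        { toFun := fun s => (oDData k E).lift (fun hV => f * oval k (V := V.unop) s hV.down) fun x hx => by
            refine (map_mul (place k x).1 f _).le.trans ?_
            exact ((mul_le_mul_right (oval_bound (V := V.unop) s x hx) _).trans_eq (mul_comm _ _)).trans (h x)
          map_zero' := oval_ext fun hV => by
            show f * oval k (V := V.unop) (0 : Γ(oD k D, V.unop)) hV = 0
            rw [show oval k (V := V.unop) (0 : Γ(oD k D, V.unop)) hV = 0 from rfl, mul_zero]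
          map_add' := fun s t => oval_ext fun hV => by
            show f * oval k (V := V.unop) (s + t) hV = f * oval k (V := V.unop) s hV + f * oval k (V := V.unop) t hV
            exact (congrArg (f * ·) (oval_add (V := V.unop) s t hV)).trans (mul_add _ _ _) }
      naturality := fun _ _ _ => rfl } fun V r s => oval_ext fun hV => by
        show f * oval k (V := V.unop) (r • s) hV = _
        erw [oval_smul, oval_smul]
        exact mul_left_comm _ _ _⟩

theorem oval_mulHom {D E : Divisor k X.functionField} (f : X.functionField)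
    (h : ∀ x : CP X, exp (D (place k x)) * (place k x).1 f ≤ exp (E (place k x))) {V : X.Opens}
    (s : Γ(oD k D, V)) (hV : genericPoint X ∈ V) : oval k ((mulHom k f h).app V s) hV = f * oval k s hV := rfl

/-- Linearly equivalent divisors give isomorphic modules. -/
theorem nonempty_iso_of_sub_mem {D E : Divisor k X.functionField}
    (h : D - E ∈ _root_.FunFld.prinDivs k X.functionField) : Nonempty (oD k D ≅ oD k E) := by
  obtain ⟨f, hf0, hf⟩ := (FunFld.mem_prinDivs_iff (isFG k) _).1 h
  have hP : ∀ x : CP X, D (place k x) - E (place k x) = (place k x).ord f := fun x => by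
    rw [← (isFG k).div_apply f (place k x), hf]; rfl
  have h1 : ∀ x : CP X, exp (D (place k x)) * (place k x).1 f ≤ exp (E (place k x)) := fun x => by
    rw [FunFld.val_eq (place k x) hf0, ← exp_add, exp_le_exp]; linarith [hP x]
  have h2 : ∀ x : CP X, exp (E (place k x)) * (place k x).1 f⁻¹ ≤ exp (D (place k x)) := fun x => by
    rw [map_inv₀, FunFld.val_eq (place k x) hf0, ← exp_neg, ← exp_add, exp_le_exp]; linarith [hP x]
  refine ⟨⟨mulHom k f h1, mulHom k f⁻¹ h2, ?_, ?_⟩⟩ <;>
  · refine Scheme.Modules.hom_ext _ _ fun V => ?_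
    ext s
    refine oval_ext fun hV => ?_
    first
      | exact inv_mul_cancel_left₀ hf0 _
      | exact mul_inv_cancel_left₀ hf0 _

/-- A morphism of divisor modules is the multiplication by a rational function. -/
theorem exists_factor {D E : Divisor k X.functionField} (φ : oD k D ⟶ oD k E) :
    ∃ f : X.functionField, ∀ (V : X.Opens) (s : Γ(oD k D, V)) (hV : genericPoint X ∈ V),
      oval k (φ.app V s) hV = f * oval k s hV := by
  obtain ⟨V₀, g, hη, hg0, hg⟩ := exists_gen k D (genericPoint X)
  set e₀ := mkSec k D V₀ g fun x hx => (hg x hx).le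
  refine ⟨oval k (φ.app V₀ e₀) hη / g, fun V s hV => ?_⟩
  have hW : genericPoint X ∈ V ⊓ V₀ := ⟨hV, hη⟩
  obtain ⟨a, ha⟩ := (isGen_mkSec k D V₀ g hg0 hg (V ⊓ V₀) inf_le_right).2
    ((oD k D).presheaf.map (homOfLE inf_le_left).op s)
  have h1 : X.presheaf.germ _ _ hW a * g = oval k s hV := by
    have := congrArg (fun t => oval k t hW) ha
    dsimp only at this
    rw [oval_smul] at this
    exact this
  have h2 : X.presheaf.germ _ _ hW a * oval k (φ.app V₀ e₀) hη = oval k (φ.app V s) hV := by
    have := congrArg (fun t => oval k (φ.app (V ⊓ V₀) t) hW) ha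
    dsimp only at this
    rw [Scheme.Modules.Hom.app_smul, oval_smul] at this
    have hn : ∀ {U : X.Opens} (i : V ⊓ V₀ ⟶ U) (t : Γ(oD k D, U)),
        oval k (φ.app (V ⊓ V₀) ((oD k D).presheaf.map i.op t)) hW = oval k (φ.app U t) (i.le hW) := by
      intro U i t
      rw [← oval_map i (φ.app U t) hW]
      exact congrArg (fun z => oval k z hW) (ConcreteCategory.congr_hom (φ.mapPresheaf.naturality i.op) t)
    rw [hn, hn] at this
    exact this
  rw [← h2, ← h1]
  field_simp

theorem le_of_factor {D E : Divisor k X.functionField} {φ : oD k D ⟶ oD k E} {f : X.functionField}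
    (hf : ∀ (V : X.Opens) (s : Γ(oD k D, V)) (hV : genericPoint X ∈ V), oval k (φ.app V s) hV = f * oval k s hV)
    (x : CP X) : (place k x).1 f * exp (D (place k x)) ≤ exp (E (place k x)) := by
  obtain ⟨g, hg0, hg⟩ := FunFld.exists_val_eq (place k x) (D (place k x))
  obtain ⟨V, hxV, hV⟩ := exists_local_sec D x g hg.le
  have h := oval_bound (φ.app V (mkSec k D V g hV)) x hxV
  rw [hf, oval_mkSec, map_mul] at h
  calc (place k x).1 f * exp (D (place k x)) = (place k x).1 f * (place k x).1 g := by rw [← hg]
    _ ≤ _ := h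

/-- Isomorphic divisor modules come from linearly equivalent divisors. -/
theorem sub_mem_of_iso {D E : Divisor k X.functionField} (e : oD k D ≅ oD k E) :
    D - E ∈ _root_.FunFld.prinDivs k X.functionField := by
  obtain ⟨f, hf⟩ := exists_factor k e.hom
  obtain ⟨f', hf'⟩ := exists_factor k e.inv
  obtain ⟨V₀, g, hη, hg0, hg⟩ := exists_gen k D (genericPoint X)
  have hff : f' * f = 1 := by
    set e₀ := mkSec k D V₀ g fun x hx => (hg x hx).le
    have h1 : e.inv.app V₀ (e.hom.app V₀ e₀) = e₀ :=
      ConcreteCategory.congr_hom (congrArg (fun φ : oD k D ⟶ oD k D => φ.app V₀) e.hom_inv_id) e₀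
    have h2 := congrArg (fun t => oval k t hη) h1
    dsimp only at h2
    rw [hf', hf, oval_mkSec, ← mul_assoc] at h2
    exact mul_right_cancel₀ hg0 (h2.trans (one_mul g).symm)
  have hf0 : f ≠ 0 := right_ne_zero_of_mul_eq_one hff
  have hf'0 : f' ≠ 0 := left_ne_zero_of_mul_eq_one hff
  refine (FunFld.mem_prinDivs_iff (isFG k) _).2 ⟨f, hf0, Finsupp.ext fun P => ?_⟩
  obtain ⟨x, rfl⟩ := place_surjective (k := k) P
  rw [(isFG k).div_apply f (place k x), Finsupp.sub_apply]
  have a := le_of_factor k hf x
  have b := le_of_factor k hf' x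
  rw [FunFld.val_eq (place k x) hf0, ← exp_add, exp_le_exp] at a
  rw [show f' = f⁻¹ from (eq_inv_of_mul_eq_one_left hff), map_inv₀, FunFld.val_eq (place k x) hf0,
    ← exp_neg, ← exp_add, exp_le_exp] at b
  linarith

/-- Classes of invertible modules of a given degree are counted by the class number. -/
theorem nonempty_equiv_cl0 [Finite k] (h0 : Module.finrank k (Coh.HH X (Coh.structureModule X) 0) = 1) (m : ℤ) :
    Nonempty (FunFld.Cl0 k X.functionField ≃
      {c : PicF.Cl X // ∃ L : X.Modules, PicF.cl L = c ∧ PicF.IsInvertible L ∧ Curv2.deg k X L 1 = m}) := by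
  have hK := isFunctionField k (X := X) h0
  haveI := FunFld.finite_cl0 hK
  letI := Fintype.ofFinite (FunFld.Cl0 k X.functionField)
  obtain ⟨D₁, hD₁⟩ := FunFld.exists_divisor_deg_one hK
  let g : FunFld.Cl0 k X.functionField →
      {c : PicF.Cl X // ∃ L : X.Modules, PicF.cl L = c ∧ PicF.IsInvertible L ∧ Curv2.deg k X L 1 = m} :=
    fun c => ⟨PicF.cl (oD k (m • D₁ + (c.out : Divisor k X.functionField))), _, rfl, isInvertible_oD k _, by
      rw [deg_oD, FunFld.deg_class hD₁]⟩
  refine ⟨Equiv.ofBijective g ⟨fun a b hab => ?_, fun ⟨c, L, hc, hL, hd⟩ => ?_⟩⟩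
  · obtain ⟨e⟩ := (cl_eq_cl_iff _ _).1 (congrArg Subtype.val hab)
    have h := sub_mem_of_iso k e
    rw [add_sub_add_left_eq_sub] at h
    rw [← QuotientAddGroup.out_eq' a, ← QuotientAddGroup.out_eq' b]
    refine (QuotientAddGroup.eq).2 ?_
    rw [AddSubgroup.mem_addSubgroupOf]
    have := neg_mem h
    simpa [sub_eq_add_neg, add_comm] using this
  · obtain ⟨D, ⟨e⟩⟩ := exists_iso_oD k hL
    have hD : D.deg = m := by rw [← hd, Euler.deg_of_iso k e 1, deg_oD]
    have hz : D - m • D₁ ∈ (_root_.FunFld.degHom k X.functionField).ker := by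
      rw [AddMonoidHom.mem_ker, map_sub, map_zsmul, FunFld.degHom_apply, FunFld.degHom_apply, hD, hD₁]
      simp
    let z : FunFld.Cl0 k X.functionField := QuotientAddGroup.mk (⟨_, hz⟩ : (_root_.FunFld.degHom k X.functionField).ker)
    refine ⟨z, Subtype.ext ?_⟩
    have hz2 : (QuotientAddGroup.mk z.out : FunFld.Cl0 k X.functionField) = z := QuotientAddGroup.out_eq' z
    have hmem := (QuotientAddGroup.eq).1 hz2
    rw [AddSubgroup.mem_addSubgroupOf] at hmem
    show PicF.cl (oD k (m • D₁ + (z.out : Divisor k X.functionField))) = c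
    rw [← hc, cl_eq_cl_iff]
    refine ⟨(nonempty_iso_of_sub_mem k ?_).some ≪≫ e.symm⟩
    have := neg_mem hmem
    simpa [sub_eq_add_neg, add_comm, add_left_comm, add_assoc] using this

end GrothLib.CurveRR
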